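import Cfsg.Agent.Mrg.Omega.FrameI
import Cfsg.Agent.Mrg.Omega.SQ1.FFKNat
import Cfsg.Agent.Mrg.Omega.SQ1.FFOf
import Cfsg.Agent.Mrg.Omega.SQ1.FFSym

section


/-!
# UNI_T (helper995 #27055, helper860 #27010, helper528 #27296): the abstract frame

`T` 2-group, `R` a minimal parabolic over `T`, `U = zl T R`, `Q_R = O₂(R) = C_T(U)`; blocks `N b` with lines `l b`;
`O ≤ T` with `AA(O)`; `j` the block moved by `R`, `E c` (`c ≠ j`) elementary abelian, `R`-invariant, `N j, N c, Ω₁Z(T) ≤ E c ≤ O`.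

* `Full A N l` : `A` acts on `N` as the full root group with centre `l`;
* `Fr` : the frame;
* `thom` : Thompson's inequality for every elementary abelian `X ≤ O`; `swap_mem` : the exchange.
-/

set_option autoImplicit false
set_option linter.unusedSectionVars false

namespace Cfsg.Agent.Omega.NOThreeL.RWide.UniT

open Subgroup Cfsg Cfsg.Agent.Omega.MinPar
open Cfsg.Agent.ZN (zc o2 zl)
open Cfsg.Agent.ZN.ChoiceBase (cj AA)
open Cfsg.Agent.ZN.ChoiceSit (Syl)
open Cfsg.Agent.MinSimple.MinParabolic (IsMinPar)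

universe u v

variable {G : Type u} [Group G] {ι : Type v}

/-- `A` acts on `N` as the full root group with centre `l`. -/
structure Full (A N l : Subgroup G) : Prop where
  cent : A ≤ centralizer (l : Set G)
  inl : ∀ a ∈ A, ∀ v ∈ N, a * v * a⁻¹ * v⁻¹ ∈ l
  onA : ∀ v ∈ N, v ∉ l → ∀ z ∈ l, ∃ a ∈ A, a * v * a⁻¹ * v⁻¹ = z
  onN : ∀ a ∈ A, a ∉ centralizer (N : Set G) → ∀ z ∈ l, ∃ v ∈ N, a * v * a⁻¹ * v⁻¹ = z
  cardA : Nat.card A = Nat.card ↥(A ⊓ centralizer (N : Set G)) * Nat.card l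
  ne : ¬ A ≤ centralizer (N : Set G)

/-- The blocks under `T`. -/
structure Rts (T O : Subgroup G) (N l : ι → Subgroup G) : Prop where
  two : IsPGroup 2 T
  OT : O ≤ T
  com : ∀ a b, N a ≤ centralizer (N b : Set G)
  sq : ∀ b, ∀ v ∈ N b, v * v = 1
  NO : ∀ b, N b ≤ O
  lN : ∀ b, l b ≤ N b
  dis : ∀ a b, a ≠ b → N a ⊓ N b = ⊥
  TN : ∀ b, T ≤ normalizer (N b : Set G)
  Tl : ∀ b, T ≤ normalizer (l b : Set G)
  cardN : ∀ b, Nat.card (N b) = Nat.card (l b) * Nat.card (l b)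
  lne : ∀ b, l b ≠ ⊥
  /-- an element of `T` which centralises the line acts as a root element -/
  rt : ∀ b, ∀ t ∈ T, t ∈ centralizer (l b : Set G) → (∀ v ∈ N b, t * v * t⁻¹ * v⁻¹ ∈ l b) ∧
    (t ∉ centralizer (N b : Set G) → ∀ z ∈ l b, ∃ v ∈ N b, t * v * t⁻¹ * v⁻¹ = z)
  /-- ... and is covered by every full root group -/
  rep : ∀ b, ∀ A ≤ T, Full A (N b) (l b) → ∀ t ∈ T, t ∈ centralizer (l b : Set G) →
    ∃ a ∈ A, a⁻¹ * t ∈ centralizer (N b : Set G)
  /-- the ROOT LEMMA -/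
  off : ∀ b, ∀ A ≤ T, IsElementaryAbelian 2 A →
    Nat.card (N b) * Nat.card ↥(A ⊓ centralizer (N b : Set G)) ≤
      Nat.card A * Nat.card ↥(N b ⊓ centralizer (A : Set G)) →
    A ≤ centralizer (N b : Set G) ∨ Full A (N b) (l b)
  /-- pure members of `AA(O)` -/
  pure : ∀ b, ∃ A ∈ AA O, ¬ A ≤ centralizer (N b : Set G) ∧ ∀ c, c ≠ b → A ≤ centralizer (N c : Set G)
  I4 : zc (T ⊓ centralizer ((⨆ b, l b : Subgroup G) : Set G)) ≤ ⨆ b, l b

/-- **The frame.** -/
structure Fr [Finite G] (T O R : Subgroup G) (N l E : ι → Subgroup G) (j : ι) : Prop extends Rts T O N l where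
  syl : Syl T R
  par : IsMinPar T R
  /-- `O₂(R) = C_T(U)` -/
  UQ : T ⊓ centralizer (zl T R : Set G) = o2 R
  cR : R ⊓ centralizer (o2 R : Set G) ≤ o2 R
  zT : zc T ≤ ⨆ b, (l b ⊓ centralizer (T : Set G))
  RF : ∀ b, b ≠ j → R ≤ centralizer ((l b ⊓ centralizer (T : Set G) : Subgroup G) : Set G)
  mv : ¬ R ≤ centralizer ((l j ⊓ centralizer (T : Set G) : Subgroup G) : Set G)
  ex : ∃ c, c ≠ j
  EO : ∀ c, c ≠ j → E c ≤ O
  eab : ∀ c, c ≠ j → IsElementaryAbelian 2 (E c)
  RE : ∀ c, c ≠ j → R ≤ normalizer (E c : Set G)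
  jE : ∀ c, c ≠ j → N j ≤ E c
  NE : ∀ c, c ≠ j → N c ≤ E c
  ZE : ∀ c, c ≠ j → zc T ≤ E c
  /-- an element of `L c` which moves the line -/
  lam : ∀ c, c ≠ j → ∃ m, m ∈ normalizer (E c : Set G) ∧ m ∈ normalizer (N c : Set G) ∧
    (∀ b, b ≠ c → m ∈ centralizer (N b : Set G)) ∧
    m ∈ normalizer ((T ⊓ centralizer ((⨆ b, N b : Subgroup G) : Set G) : Subgroup G) : Set G) ∧ cj m (l c) ⊓ l c = ⊥

/-! ### Thompson's exchange -/

section thom

variable [Finite G] {O A X : Subgroup G}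

theorem comA (hA : IsElementaryAbelian 2 A) : A ≤ centralizer (A : Set G) := fun x hx =>
  mem_centralizer_iff.2 fun a ha => congrArg (fun t : A => (t : G)) (hA.1.is_comm.comm ⟨a, ha⟩ ⟨x, hx⟩)

theorem eab_mono (hA : IsElementaryAbelian 2 A) (hX : X ≤ A) : IsElementaryAbelian 2 X :=
  ⟨⟨⟨fun a b => Subtype.ext (congrArg (fun t : A => (t : G)) (hA.1.is_comm.comm ⟨a, hX a.2⟩ ⟨b, hX b.2⟩))⟩⟩,
    fun a ha => hA.2 a (hX ha)⟩

/-- **Thompson's inequality** -/
theorem thom (hA : A ∈ AA O) (hX : IsElementaryAbelian 2 X) (hXO : X ≤ O) :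
    Nat.card X * Nat.card ↥(A ⊓ centralizer (X : Set G)) ≤ Nat.card A * Nat.card ↥(X ⊓ centralizer (A : Set G)) := by
  have hc : A ⊓ centralizer (X : Set G) ≤ centralizer (X : Set G) := inf_le_right
  have h1 := Cfsg.Agent.PLocal.ElemAbSup.isElementaryAbelian_sup hX (eab_mono hA.1 inf_le_left) hc
  have h2 := hA.2.2 _ h1 (sup_le hXO (inf_le_left.trans hA.2.1))
  have h3 := Cfsg.Agent.PLocal.ElemAbSup.card_sup_mul_card_inf hc
  have h4 : Nat.card ↥(X ⊓ (A ⊓ centralizer (X : Set G))) ≤ Nat.card ↥(X ⊓ centralizer (A : Set G)) :=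
    Subgroup.card_le_of_le (le_inf inf_le_left (inf_le_right.trans (inf_le_left.trans (comA hA.1))))
  rw [← h3]
  exact Nat.mul_le_mul h2 h4

/-- `C_X(A) ≤ A` -/
theorem cent_le (hA : A ∈ AA O) (hX : IsElementaryAbelian 2 X) (hXO : X ≤ O) : X ⊓ centralizer (A : Set G) ≤ A := by
  have hc : X ⊓ centralizer (A : Set G) ≤ centralizer (A : Set G) := inf_le_right
  have h1 := Cfsg.Agent.PLocal.ElemAbSup.isElementaryAbelian_sup hA.1 (eab_mono hX inf_le_left) hc
  have h2 := hA.2.2 _ h1 (sup_le hA.2.1 (inf_le_left.trans hXO))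
  have h3 : A ⊔ (X ⊓ centralizer (A : Set G)) = A :=
    (Subgroup.eq_of_le_of_card_ge le_sup_left h2).symm
  exact sup_eq_left.1 h3

/-- **the exchange** : equality gives `C_A(X) X ∈ AA(O)` -/
theorem swap_mem (hA : A ∈ AA O) (hX : IsElementaryAbelian 2 X) (hXO : X ≤ O)
    (h : Nat.card A * Nat.card ↥(X ⊓ centralizer (A : Set G)) ≤ Nat.card X * Nat.card ↥(A ⊓ centralizer (X : Set G))) :
    (A ⊓ centralizer (X : Set G)) ⊔ X ∈ AA O := by
  have hc : A ⊓ centralizer (X : Set G) ≤ centralizer (X : Set G) := inf_le_right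
  have h1 := Cfsg.Agent.PLocal.ElemAbSup.isElementaryAbelian_sup hX (eab_mono hA.1 inf_le_left) hc
  have h3 := Cfsg.Agent.PLocal.ElemAbSup.card_sup_mul_card_inf hc
  have h4 : Nat.card ↥(X ⊓ (A ⊓ centralizer (X : Set G))) ≤ Nat.card ↥(X ⊓ centralizer (A : Set G)) :=
    Subgroup.card_le_of_le (le_inf inf_le_left (inf_le_right.trans (inf_le_left.trans (comA hA.1))))
  rw [sup_comm]
  refine ⟨h1, sup_le hXO (inf_le_left.trans hA.2.1), fun B hB hBO => (hA.2.2 B hB hBO).trans ?_⟩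
  rw [← h3] at h
  have h5 : Nat.card A * Nat.card ↥(X ⊓ centralizer (A : Set G)) ≤
      Nat.card ↥(X ⊔ A ⊓ centralizer (X : Set G)) * Nat.card ↥(X ⊓ centralizer (A : Set G)) :=
    h.trans (Nat.mul_le_mul_left _ h4)
  exact Nat.le_of_mul_le_mul_right h5 Nat.card_pos

end thom

end Cfsg.Agent.Omega.NOThreeL.RWide.UniT

end

section


/-!
# `cT_le`: part F of the uniqueness of blocks in the left case (#27055 (6))

`R` a minimal parabolic over `T`, `U = zl T R`; a module `Y` with a line `l ≤ U` on which an offender `A` of `U`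
acts with full transvections: `T ∩ C(Y) ≤ O₂(R)`.
-/

set_option autoImplicit false
set_option linter.unusedSectionVars false
set_option linter.unusedVariables false

namespace Cfsg.Agent.Omega.NOThreeL.RWide.UniT.FF

open Subgroup Cfsg Cfsg.Agent.ZN Cfsg.Agent.ZN.ChoiceBase Cfsg.Agent.ZN.ChoiceSit
open Cfsg.Agent.Omega.NatPair Cfsg.Agent.Lib.SL2Mat
open Cfsg.Agent.Omega.SQ1.FFOne (MinH minH_of mem_norm_of)
open Cfsg.Agent.Omega.SQ1.FFOf (cv_le cv_norm)
open Cfsg.Agent.Omega.FFThm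
open Cfsg.Agent.Omega.FrameFF (cv)
open Cfsg.Agent.MinSimple.MinParabolic (IsMinPar)
open Cfsg.Agent.MinSimple.VModule (oddGen mem_oddGen oddGen_def oddGen_le_of_sup le_normalizer_oddGen
  oddGen_le)

universe u

variable {G : Type u} [Group G]

/-! ### Coordinates -/

section add

variable {U : Subgroup G} {M : Type*} [AddGroup M] {e : G → M}

theorem e_one (h : ∀ v ∈ U, ∀ w ∈ U, e (v * w) = e v + e w) : e 1 = 0 := by
  have := h 1 (one_mem U) 1 (one_mem U)
  rw [one_mul] at this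
  exact left_eq_add.1 this

theorem e_inv (h : ∀ v ∈ U, ∀ w ∈ U, e (v * w) = e v + e w) {v : G} (hv : v ∈ U) : e v⁻¹ = - e v := by
  have := h v hv v⁻¹ (inv_mem hv)
  rw [mul_inv_cancel, e_one h] at this
  exact (neg_eq_of_add_eq_zero_right this.symm).symm

theorem e_div (h : ∀ v ∈ U, ∀ w ∈ U, e (v * w) = e v + e w) {v w : G} (hv : v ∈ U) (hw : w ∈ U) :
    e (v * w⁻¹) = e v - e w := by
  rw [h v hv w⁻¹ (inv_mem hw), e_inv h hw, sub_eq_add_neg]

end add

/-! ### Elementary facts -/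

variable [Finite G] {T R Y l A : Subgroup G}

private theorem oddGen_sup_syl {P S : Subgroup G} (hS : Syl S P) : oddGen P ⊔ S = P := by
  have : Fact (Nat.Prime 2) := ⟨Nat.prime_two⟩
  have hSyl := syl_not_dvd hS
  apply le_antisymm (sup_le (oddGen_le P) hS.1)
  have hN : ((oddGen P).subgroupOf P).Normal :=
    normal_subgroupOf_of_le_normalizer (le_normalizer_oddGen P)
  have h1 : IsPGroup 2 (P ⧸ (oddGen P).subgroupOf P) := by
    intro q
    obtain ⟨x, rfl⟩ := QuotientGroup.mk_surjective q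
    obtain ⟨a, m, hm, ha⟩ := Nat.exists_eq_pow_mul_and_not_dvd (orderOf_pos (x : G)).ne' 2 (by norm_num)
    refine ⟨a, ?_⟩
    rw [← QuotientGroup.mk_pow, QuotientGroup.eq_one_iff, mem_subgroupOf]
    refine mem_oddGen (P.pow_mem x.2 _) ?_
    have hm0 : 0 < m := Nat.pos_of_ne_zero (by rintro rfl; simp at hm)
    have h2 : orderOf ((x : G) ^ 2 ^ a) = m := by
      rw [orderOf_pow_of_dvd (by positivity) (ha ▸ Dvd.intro _ rfl), ha,
        Nat.mul_div_cancel_left _ (by positivity)]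
    rw [coe_pow, h2]
    exact Nat.not_even_iff_odd.1 fun h => hm h.two_dvd
  obtain ⟨k, hk⟩ := IsPGroup.iff_card.1 h1
  have h2 : (oddGen P ⊔ S).relIndex P ∣ 2 ^ k := by
    have h3 : (oddGen P ⊔ S).relIndex P ∣ (oddGen P).relIndex P := relIndex_dvd_of_le_left _ le_sup_left
    have h4 : (oddGen P).relIndex P = 2 ^ k := by
      rw [← hk, relIndex, index_eq_card]
    rwa [h4] at h3
  obtain ⟨j, -, hj⟩ := (Nat.dvd_prime_pow Nat.prime_two).1 h2
  have h5 : (oddGen P ⊔ S).relIndex P ∣ S.relIndex P := relIndex_dvd_of_le_left _ le_sup_right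
  rw [hj] at h5
  rcases Nat.eq_zero_or_pos j with rfl | hj0
  · rw [pow_zero] at hj
    exact relIndex_eq_one.1 hj
  · exact absurd ((dvd_pow_self 2 hj0.ne').trans h5) hSyl

/-- The elementary facts on `U = zl T R`. -/
structure Bas (T R : Subgroup G) : Prop where
  hm : MinH R T
  Un : ∀ h ∈ R, ∀ v ∈ zl T R, h * v * h⁻¹ ∈ zl T R
  Usq : ∀ v ∈ zl T R, v ^ 2 = 1
  UcQ : ∀ x ∈ o2 R, ∀ v ∈ zl T R, x * v = v * x

theorem Bas.of (hT : Syl T R) (hP : IsMinPar T R) (hc : R ⊓ centralizer (o2 R : Set G) ≤ o2 R) :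
    Bas T R where
  hm := minH_of hT hP hc
  Un h hh v hv := (mem_normalizer_iff.1 (MinSimple.VModule.le_normalizer_zl T R hh) v).1 hv
  Usq v hv := (ChoiceBase.mem_zc.1
    (MinSimple.VModule.zl_le_zc hT.1 hT.2.1 (syl_not_dvd hT) hc hv)).2.1
  UcQ x hx v hv := by
    have := (ChoiceBase.mem_zc.1
      (MinSimple.VModule.zl_le_zc hT.1 hT.2.1 (syl_not_dvd hT) hc hv)).2.2 x hx
    exact this

/-- A point of `Z(T)` which `R` moves. -/
structure Mov (T R : Subgroup G) (z : G) : Prop where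
  mem : z ∈ zl T R
  cen : ∀ t ∈ T, t * z = z * t
  mov : ¬ ∀ r ∈ R, r * z = z * r

theorem Mov.not_odd {z : G} (hz : Mov T R z) (hT : Syl T R) : ¬ ∀ x ∈ oddGen R, x * z = z * x := by
  intro h
  apply hz.mov
  intro r hr
  have h1 : R ≤ centralizer ({z} : Set G) := by
    conv_lhs => rw [← oddGen_sup_syl hT]
    exact sup_le (fun x hx => mem_centralizer_singleton_iff.2 (h x hx))
      fun x hx => mem_centralizer_singleton_iff.2 (hz.cen x hx)
  exact mem_centralizer_singleton_iff.1 (h1 hr)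

theorem Mov.not_cv {z : G} (hz : Mov T R z) (hT : Syl T R) : z ∉ cv T R := fun h =>
  hz.not_odd hT fun x hx => mem_centralizer_iff.1 h.2 x hx

/-- Elements of `T` which are trivial on `U / D` lie in `O₂(R)`. -/
theorem Bas.mem_o2 (h : Bas T R) {z t : G} (hz : Mov T R z) (ht : t ∈ T)
    (hD : ∀ u ∈ zl T R, t * u * t⁻¹ * u⁻¹ ∈ cv T R) : t ∈ o2 R := by
  have hT := h.hm.syl
  let N : Subgroup G :=
    { carrier := {x | x ∈ R ∧ ∀ u ∈ zl T R, x * u * x⁻¹ * u⁻¹ ∈ cv T R}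
      mul_mem' := by
        rintro x y ⟨hx, hx'⟩ ⟨hy, hy'⟩
        refine ⟨mul_mem hx hy, fun u hu => ?_⟩
        have e : x * y * u * (x * y)⁻¹ * u⁻¹ =
            (x * (y * u * y⁻¹) * x⁻¹ * (y * u * y⁻¹)⁻¹) * (y * u * y⁻¹ * u⁻¹) := by group
        rw [e]
        exact mul_mem (hx' _ (h.Un y hy u hu)) (hy' u hu)
      one_mem' := by
        refine ⟨one_mem R, fun u hu => ?_⟩
        rw [one_mul, inv_one, mul_one, mul_inv_cancel]
        exact one_mem _
      inv_mem' := by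
        rintro x ⟨hx, hx'⟩
        refine ⟨inv_mem hx, fun u hu => ?_⟩
        have h1 := inv_mem (hx' _ (h.Un x⁻¹ (inv_mem hx) u hu))
        have e : (x * (x⁻¹ * u * x⁻¹⁻¹) * x⁻¹ * (x⁻¹ * u * x⁻¹⁻¹)⁻¹)⁻¹ =
            x⁻¹ * u * x⁻¹⁻¹ * u⁻¹ := by group
        rwa [e] at h1 }
  have hNR : N ≤ R := fun x hx => hx.1
  have hNn : ∀ g ∈ R, ∀ x ∈ N, g * x * g⁻¹ ∈ N := by
    rintro g hg x ⟨hx, hx'⟩
    refine ⟨mul_mem (mul_mem hg hx) (inv_mem hg), fun u hu => ?_⟩
    have h1 := cv_norm g hg _ (hx' _ (h.Un g⁻¹ (inv_mem hg) u hu))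
    have e : g * (x * (g⁻¹ * u * g⁻¹⁻¹) * x⁻¹ * (g⁻¹ * u * g⁻¹⁻¹)⁻¹) * g⁻¹ =
        g * x * g⁻¹ * u * (g * x * g⁻¹)⁻¹ * u⁻¹ := by group
    rwa [e] at h1
  have hne : N ⊔ T ≠ R := by
    intro e
    have h1 : oddGen R ≤ N := oddGen_le_of_sup (fun g hg => mem_norm_of (hNn g hg)) e.ge hT.1 hNR hT.2.1
    apply hz.not_odd hT
    have h2 : oddGen R ≤ centralizer ({z} : Set G) := by
      rw [oddGen_def, closure_le]
      rintro x ⟨hx, ho⟩
      have hxo : x ∈ oddGen R := mem_oddGen hx ho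
      obtain ⟨-, hx2⟩ := h1 hxo
      have hd := hx2 z hz.mem
      set d := x * z * x⁻¹ * z⁻¹ with hdd
      have hxd : x * d = d * x := mem_centralizer_iff.1 hd.2 x hxo
      have hd2 : d ^ 2 = 1 := h.Usq d hd.1
      have hxz : x * z = d * z * x := by rw [hdd]; group
      have hn : ∀ n : ℕ, x ^ n * z = d ^ n * z * x ^ n := by
        intro n
        induction n with
        | zero => simp
        | succ n ih =>
          have hc : Commute x (d ^ n) := (show Commute x d from hxd).pow_right n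
          calc x ^ (n + 1) * z = x * (x ^ n * z) := by rw [pow_succ']; group
            _ = x * d ^ n * z * x ^ n := by rw [ih]; group
            _ = d ^ n * (x * z) * x ^ n := by rw [hc.eq]; group
            _ = d ^ (n + 1) * z * x ^ (n + 1) := by rw [hxz, pow_succ, pow_succ' x]; group
      have h3 := hn (orderOf x)
      rw [pow_orderOf_eq_one, one_mul, mul_one] at h3
      have h4 : d ^ orderOf x = 1 := (mul_eq_right.1 h3.symm)
      obtain ⟨k, hk⟩ := ho
      rw [hk, pow_succ, pow_mul, hd2, one_pow, one_mul] at h4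
      rw [h4, one_mul] at hxz
      exact mem_centralizer_singleton_iff.2 hxz
    exact fun x hx => mem_centralizer_singleton_iff.1 (h2 hx)
  exact h.hm.inf_le hNR hNn hne ⟨ht, hT.1 ht, hD⟩

/-! ### Sums of natural modules -/

section nat

variable {F : Type} [Field F] {k : ℕ}

/-- `g` acts as an upper unitriangular element of `SL₂(F)^k` on `U / D`. -/
def Ac (e : G → Fin k → Fin 2 → F) (U : Subgroup G) (g : G) (b : Fin k → F) : Prop :=
  ∀ v ∈ U, ∀ i, e (g * v * g⁻¹) i = ap (up (b i)) (e v i)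

theorem Ac.mul {e : G → Fin k → Fin 2 → F} {U : Subgroup G} {g h : G} {b c : Fin k → F}
    (hb : Ac e U g b) (hc : Ac e U h c) (hh : ∀ v ∈ U, h * v * h⁻¹ ∈ U) : Ac e U (g * h) (b + c) := by
  intro v hv i
  have e1 : g * h * v * (g * h)⁻¹ = g * (h * v * h⁻¹) * g⁻¹ := by group
  rw [e1, hb _ (hh v hv) i, hc v hv i, ← ap_mul, up_mul, Pi.add_apply]

theorem Ac.inv {e : G → Fin k → Fin 2 → F} {U : Subgroup G} {g : G} {b : Fin k → F}
    (hb : Ac e U g b) (hh : ∀ v ∈ U, g⁻¹ * v * g⁻¹⁻¹ ∈ U) : Ac e U g⁻¹ (-b) := by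
  intro v hv i
  have h1 := hb _ (hh v hv) i
  have e1 : g * (g⁻¹ * v * g⁻¹⁻¹) * g⁻¹ = v := by group
  rw [e1] at h1
  rw [h1, Pi.neg_apply, ← up_inv, ap_inv_ap]

theorem ap_up' (a : F) (x : Fin 2 → F) : ap (up a) x - x = ![a * x 1, 0] := by
  apply ext2
  · rw [Pi.sub_apply, ap_zero', up_00, up_01]
    show 1 * x 0 + a * x 1 - x 0 = a * x 1
    ring
  · rw [Pi.sub_apply, ap_one', up_10, up_11]
    show 0 * x 0 + 1 * x 1 - x 1 = 0
    ring

end nat

theorem nat_le {F : Type} [Field F] [Finite F] [CharP F 2] {k : ℕ} (h : Bas T R)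
    (M : NatK F T R (zl T R) (cv T R) k) (hA : A ≤ T) (hoff : Off (zl T R) A)
    (TY : T ≤ normalizer (Y : Set G)) (hl : l ≤ zl T R) {z : G} (hzl : z ∈ l) (hz : Mov T R z)
    (cov : ∀ v ∈ Y, ∃ u ∈ zl T R, ∃ c ∈ centralizer (A : Set G), v = u * c)
    (inl : ∀ a ∈ A, ∀ v ∈ Y, a * v * a⁻¹ * v⁻¹ ∈ l)
    (full : ∀ a ∈ A, a ∉ centralizer (Y : Set G) → ∀ z ∈ l, ∃ v ∈ Y, z = a * v * a⁻¹ * v⁻¹)
    (hne : ¬ A ≤ centralizer (Y : Set G)) (hQ : o2 R ≤ centralizer (Y : Set G)) :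
    T ⊓ centralizer (Y : Set G) ≤ o2 R := by
  classical
  have hT := h.hm.syl
  have hTR : ∀ t ∈ T, t ∈ R := fun t ht => hT.1 ht
  obtain ⟨I, h1, h2⟩ := M.off A hA hoff
  have UT : ∀ t ∈ T, ∀ v ∈ zl T R, t * v * t⁻¹ ∈ zl T R := fun t ht => h.Un t (hTR t ht)
  have key : ∀ t ∈ T, (∀ v ∈ zl T R, M.e (t * v * t⁻¹) = M.e v) → t ∈ o2 R := by
    intro t ht h0
    refine h.mem_o2 hz ht fun u hu => ?_
    rw [← M.ker _ (mul_mem (UT t ht u hu) (inv_mem hu)), e_div M.mul (UT t ht u hu) hu, h0 u hu,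
      sub_self]
  -- commutators of `A` on `Y` come from `U`
  have hcom : ∀ v ∈ Y, ∃ u ∈ zl T R, ∀ a ∈ A, a * v * a⁻¹ * v⁻¹ = a * u * a⁻¹ * u⁻¹ := by
    intro v hv
    obtain ⟨u, hu, c, hc, rfl⟩ := cov v hv
    refine ⟨u, hu, fun a ha => ?_⟩
    have h3 : a * c = c * a := mem_centralizer_iff.1 hc a ha
    calc a * (u * c) * a⁻¹ * (u * c)⁻¹ = a * u * (c * a⁻¹) * c⁻¹ * u⁻¹ := by group
      _ = a * u * (a⁻¹ * (a * c) * a⁻¹) * c⁻¹ * u⁻¹ := by group
      _ = a * u * a⁻¹ * u⁻¹ := by rw [h3]; group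
  -- step A
  have stepA : ∀ s : Finset (Fin k), ∀ a ∈ A, a ∉ centralizer (Y : Set G) → ∀ b : Fin k → F,
      (∀ i, i ∉ I → b i = 0) → (∀ i, i ∉ s → b i = 0) → Ac M.e (zl T R) a b →
      ∃ i ∈ I, ∃ c : F, ∃ a' ∈ A, a' ∉ centralizer (Y : Set G) ∧
        Ac M.e (zl T R) a' (Pi.single i c) := by
    intro s
    induction s using Finset.induction_on with
    | empty =>
      intro a ha haY b hbI hbs hab
      exfalso
      apply haY
      apply hQ
      refine key a (hA ha) fun v hv => ?_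
      funext i
      rw [hab v hv i, hbs i (by simp), up_zero, ap_one]
    | insert j s hj ih =>
      intro a ha haY b hbI hbs hab
      by_cases hjI : j ∈ I
      · obtain ⟨a₁, ha₁, hact⟩ := h2 (Pi.single j (b j)) fun i hi => by
          rw [Pi.single_eq_of_ne (by rintro rfl; exact hi hjI)]
        by_cases hc : a₁ ∈ centralizer (Y : Set G)
        · have h3 : Ac M.e (zl T R) (a₁⁻¹ * a) (-(Pi.single j (b j)) + b) :=
            Ac.mul (Ac.inv (show Ac M.e (zl T R) a₁ (Pi.single j (b j)) from hact.1)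
              (UT _ (inv_mem (hA ha₁)))) hab (UT _ (hA ha))
          refine ih (a₁⁻¹ * a) (mul_mem (inv_mem ha₁) ha) (fun h4 => haY ?_) _ (fun i hi => ?_)
            (fun i hi => ?_) h3
          · have := mul_mem hc h4
            rwa [mul_inv_cancel_left] at this
          · rw [Pi.add_apply, Pi.neg_apply, hbI i hi,
              Pi.single_eq_of_ne (by rintro rfl; exact hi hjI)]
            simp
          · rw [Pi.add_apply, Pi.neg_apply]
            by_cases hij : i = j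
            · subst hij
              rw [Pi.single_eq_same, neg_add_cancel]
            · rw [Pi.single_eq_of_ne hij, hbs i (by simp [hij, hi])]
              simp
        · exact ⟨j, hjI, b j, a₁, ha₁, hc, hact.1⟩
      · refine ih a ha haY b hbI (fun i hi => ?_) hab
        by_cases hij : i = j
        · subst hij
          exact hbI i hjI
        · exact hbs i (by simp [hij, hi])
  obtain ⟨a₀, ha₀, ha₀Y⟩ := SetLike.not_le_iff_exists.1 hne
  obtain ⟨b₀, hb₀, hab₀⟩ := h1 a₀ ha₀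
  obtain ⟨i, hiI, c, a, ha, haY, hac⟩ := stepA Finset.univ a₀ ha₀ ha₀Y b₀ hb₀ (by simp) hab₀.1
  -- step B
  obtain ⟨v, hv, ezv⟩ := full a ha haY z hzl
  obtain ⟨u, hu, hvu⟩ := hcom v hv
  have hecomm : ∀ (a' : G) (b : Fin k → F), a' ∈ A → Ac M.e (zl T R) a' b → ∀ j,
      M.e (a' * v * a'⁻¹ * v⁻¹) j = ![b j * M.e u j 1, 0] := by
    intro a' b ha' hb j
    rw [hvu a' ha', e_div M.mul (UT a' (hA ha') u hu) hu, Pi.sub_apply, hb u hu j, ap_up']
  have hz0 : M.e z ≠ 0 := fun h0 => hz.not_cv hT ((M.ker z hz.mem).1 h0)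
  have hzj : ∀ j, j ≠ i → M.e z j = 0 := by
    intro j hj
    rw [ezv, hecomm a _ ha hac j, Pi.single_eq_of_ne hj, zero_mul]
    apply ext2 <;> rfl
  have hzi : M.e z i ≠ 0 := by
    intro h0
    apply hz0
    funext j
    by_cases hj : j = i
    · rw [hj, h0]; rfl
    · rw [hzj j hj]; rfl
  have hu1 : M.e u i 1 ≠ 0 := by
    intro h0
    apply hzi
    rw [ezv, hecomm a _ ha hac i, h0, mul_zero]
    apply ext2 <;> rfl
  -- one summand
  have hone : ∀ j, j = i := by
    intro j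
    by_contra hj
    obtain ⟨t, ht, htr⟩ := M.trans i j
    have h3 := htr z hz.mem
    rw [hz.cen t ht, mul_inv_cancel_right] at h3
    exact hzi (h3.1 (hzj j hj))
  have hact : ∀ x : F, ∃ a' ∈ A, Ac M.e (zl T R) a' (Pi.single i x) := by
    intro x
    obtain ⟨a', ha', h3⟩ := h2 (Pi.single i x) fun j hj => by
      rw [Pi.single_eq_of_ne (by rintro rfl; exact hj hiI)]
    exact ⟨a', ha', h3.1⟩
  -- the line in `l ∩ Y`
  have hline : ∀ x : F, ∃ w ∈ zl T R, w ∈ Y ∧ M.e w i = ![x, 0] := by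
    intro x
    obtain ⟨a', ha', h3⟩ := hact (x / M.e u i 1)
    refine ⟨a' * v * a'⁻¹ * v⁻¹, hl (inl a' ha' v hv), ?_, ?_⟩
    · exact mul_mem ((mem_normalizer_iff.1 (TY (hA ha')) v).1 hv) (inv_mem hv)
    · rw [hecomm a' _ ha' h3 i, Pi.single_eq_same, div_mul_cancel₀ _ hu1]
  obtain ⟨hh, hhR, hhact, -⟩ := M.lift fun _ => lo 1
  rintro t ⟨ht, htY⟩
  have htw : ∀ w ∈ Y, t * w * t⁻¹ = w := by
    intro w hw
    rw [← mem_centralizer_iff.1 htY w hw, mul_inv_cancel_right]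
  obtain ⟨B, hB⟩ := M.norm t (hTR t ht) hh hhR (fun _ => lo 1) hhact
  -- the action of `t`
  have hcoord : ∀ v' ∈ zl T R, M.e (t * v' * t⁻¹) i =
      ![M.e v' i 0 + (ent (B i) 0 0 - 1) * M.e v' i 1, ent (B i) 1 0 * M.e v' i 1] := by
    intro v' hv'
    obtain ⟨w₁, hw₁, hw₁Y, ew₁⟩ := hline (M.e v' i 0)
    obtain ⟨w₂, hw₂, hw₂Y, ew₂⟩ := hline (M.e v' i 1)
    have hhw := h.Un hh hhR w₂ hw₂
    have e3 : M.e (hh * w₂ * hh⁻¹ * w₂⁻¹) i = ![0, M.e v' i 1] := by
      rw [e_div M.mul hhw hw₂, Pi.sub_apply, hhact w₂ hw₂ i, ew₂]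
      apply ext2
      · rw [Pi.sub_apply, ap_zero', lo_00, lo_01]
        show 1 * M.e v' i 1 + 0 * 0 - M.e v' i 1 = 0
        ring
      · rw [Pi.sub_apply, ap_one', lo_10, lo_11]
        show 1 * M.e v' i 1 + 1 * 0 - 0 = M.e v' i 1
        ring
    have hw3 : hh * w₂ * hh⁻¹ * w₂⁻¹ ∈ zl T R := mul_mem hhw (inv_mem hw₂)
    have hd : v' * (w₁ * (hh * w₂ * hh⁻¹ * w₂⁻¹))⁻¹ ∈ cv T R := by
      rw [← M.ker _ (mul_mem hv' (inv_mem (mul_mem hw₁ hw3))), e_div M.mul hv' (mul_mem hw₁ hw3),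
        M.mul _ hw₁ _ hw3]
      funext j
      rw [hone j, Pi.sub_apply, Pi.add_apply, ew₁, e3]
      apply ext2
      · show M.e v' i 0 - (M.e v' i 0 + 0) = 0
        ring
      · show M.e v' i 1 - (0 + M.e v' i 1) = 0
        ring
    have hd' := cv_norm t (hTR t ht) _ hd
    have e4 : t * v' * t⁻¹ = (t * (v' * (w₁ * (hh * w₂ * hh⁻¹ * w₂⁻¹))⁻¹) * t⁻¹) *
        ((t * w₁ * t⁻¹) * (((t * hh * t⁻¹) * (t * w₂ * t⁻¹) * (t * hh * t⁻¹)⁻¹) *
          (t * w₂ * t⁻¹)⁻¹)) := by group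
    have hth : t * hh * t⁻¹ ∈ R := mul_mem (mul_mem (hTR t ht) hhR) (inv_mem (hTR t ht))
    have h5 := h.Un _ hth w₂ hw₂
    rw [e4, htw w₁ hw₁Y, htw w₂ hw₂Y, M.mul _ (cv_le hd') _ (mul_mem hw₁ (mul_mem h5 (inv_mem hw₂))),
      (M.ker _ (cv_le hd')).2 hd', zero_add, M.mul _ hw₁ _ (mul_mem h5 (inv_mem hw₂)),
      e_div M.mul h5 hw₂, Pi.add_apply, Pi.sub_apply, hB w₂ hw₂ i, ew₁, ew₂]
    apply ext2
    · rw [Pi.add_apply, Pi.sub_apply, ap_zero']
      show M.e v' i 0 + (ent (B i) 0 0 * M.e v' i 1 + ent (B i) 0 1 * 0 - M.e v' i 1) =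
        M.e v' i 0 + (ent (B i) 0 0 - 1) * M.e v' i 1
      ring
    · rw [Pi.add_apply, Pi.sub_apply, ap_one']
      show 0 + (ent (B i) 1 0 * M.e v' i 1 + ent (B i) 1 1 * 0 - 0) = ent (B i) 1 0 * M.e v' i 1
      ring
  -- `t` is a 2-element
  have hB1 : ent (B i) 1 0 = 1 := by
    have hpow : ∀ n : ℕ, ∀ v' ∈ zl T R, M.e (t ^ n * v' * (t ^ n)⁻¹) i 1 =
        ent (B i) 1 0 ^ n * M.e v' i 1 := by
      intro n
      induction n with
      | zero => intro v' hv'; simp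
      | succ n ih =>
        intro v' hv'
        have e5 : t ^ (n + 1) * v' * (t ^ (n + 1))⁻¹ = t ^ n * (t * v' * t⁻¹) * (t ^ n)⁻¹ := by
          rw [pow_succ]; group
        rw [e5, ih _ (UT t ht v' hv'), hcoord v' hv', pow_succ, mul_assoc]
        rfl
    obtain ⟨n, hn⟩ := hT.2.1 ⟨t, ht⟩
    have hn' : t ^ 2 ^ n = 1 := by simpa using congrArg Subtype.val hn
    obtain ⟨v', hv', ev'⟩ := M.surj fun _ => ![0, 1]
    have h3 := hpow (2 ^ n) v' hv'
    rw [hn', one_mul, inv_one, mul_one, ev'] at h3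
    have h4 : ent (B i) 1 0 ^ 2 ^ n = 1 := by
      have : (1 : F) = ent (B i) 1 0 ^ 2 ^ n * 1 := h3
      rw [mul_one] at this
      exact this.symm
    have : Fact (Nat.Prime 2) := ⟨Nat.prime_two⟩
    have h5 : (ent (B i) 1 0 - 1) ^ 2 ^ n = 0 := by
      rw [sub_pow_char_pow, h4, one_pow, sub_self]
    exact sub_eq_zero.1 (pow_eq_zero_iff (by positivity) |>.1 h5)
  have htAc : Ac M.e (zl T R) t (Pi.single i (ent (B i) 0 0 - 1)) := by
    intro v' hv' j
    rw [hone j, hcoord v' hv', hB1, Pi.single_eq_same]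
    apply ext2
    · rw [ap_zero', up_00, up_01]
      show M.e v' i 0 + (ent (B i) 0 0 - 1) * M.e v' i 1 =
        1 * M.e v' i 0 + (ent (B i) 0 0 - 1) * M.e v' i 1
      ring
    · rw [ap_one', up_10, up_11]
      show 1 * M.e v' i 1 = 0 * M.e v' i 0 + 1 * M.e v' i 1
      ring
  obtain ⟨a', ha', h3⟩ := hact (ent (B i) 0 0 - 1)
  have h4 : t * a'⁻¹ ∈ o2 R := by
    refine key _ (mul_mem ht (inv_mem (hA ha'))) fun v' hv' => ?_
    have h5 := Ac.mul htAc (Ac.inv h3 (UT _ (inv_mem (hA ha')))) (UT _ (inv_mem (hA ha')))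
    funext j
    rw [h5 v' hv' j, add_neg_cancel, Pi.zero_apply, up_zero, ap_one]
  have h5 : a' ∈ centralizer (Y : Set G) := by
    have h6 := mul_mem (inv_mem (hQ h4)) htY
    have e : (t * a'⁻¹)⁻¹ * t = a' := by group
    rwa [e] at h6
  have h6 : a' * v * a'⁻¹ * v⁻¹ = 1 := by
    rw [← mem_centralizer_iff.1 h5 v hv]; group
  have h7 := hecomm a' _ ha' h3 i
  rw [h6, e_one M.mul, Pi.single_eq_same] at h7
  have h8 : (ent (B i) 0 0 - 1) * M.e u i 1 = 0 := (congrFun h7 0).symm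
  have h9 : ent (B i) 0 0 - 1 = 0 := (mul_eq_zero.1 h8).resolve_right hu1
  refine key t ht fun v' hv' => ?_
  funext j
  rw [htAc v' hv' j, h9, Pi.single_zero, Pi.zero_apply, up_zero, ap_one]

/-! ### Sums of even-subset modules -/

theorem sym_uniq {k m : ℕ} (hm : 2 ≤ m) {U D H : Subgroup G} (M : SymK T H U D k m) {g : G}
    {τ τ' : Fin k → Equiv.Perm (Fin (2 ^ m + 1))} (h1 : ActsSym M.e U g 1 τ)
    (h2 : ActsSym M.e U g 1 τ') : τ = τ' := by
  classical
  funext i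
  ext x : 1
  by_contra hne
  have hc : 2 < Fintype.card (Fin (2 ^ m + 1)) := by
    rw [Fintype.card_fin]
    have : 2 ^ 2 ≤ 2 ^ m := Nat.pow_le_pow_right (by norm_num) hm
    omega
  set q := (τ' i)⁻¹ (τ i x) with hq
  have e1 : τ' i q = τ i x := by rw [hq]; simp
  have hqx : q ≠ x := by
    intro e
    apply hne
    rw [← e1, e]
  obtain ⟨p, hp⟩ : ∃ p, p ∉ ({x, q} : Finset (Fin (2 ^ m + 1))) := by
    by_contra hall
    push Not at hall
    have h3 : Fintype.card (Fin (2 ^ m + 1)) ≤ ({x, q} : Finset (Fin (2 ^ m + 1))).card := by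
      rw [← Finset.card_univ]
      exact Finset.card_le_card fun y _ => hall y
    have h4 := Finset.card_le_two (a := x) (b := q)
    omega
  have hpx : p ≠ x := fun e => hp (by simp [e])
  have hpq : p ≠ q := fun e => hp (by simp [e])
  obtain ⟨v, hv, ev⟩ := M.surj (Pi.single i (Pi.single x 1 + Pi.single p 1)) (by
    intro j
    by_cases hj : j = i
    · subst hj
      rw [Pi.single_eq_same]
      simp only [Pi.add_apply, Finset.sum_add_distrib, Finset.sum_pi_single', Finset.mem_univ,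
        if_true]
      decide
    · rw [Pi.single_eq_of_ne hj]
      simp)
  have h3 := h1 v hv i x
  have h4 := h2 v hv i q
  rw [e1, h3, ev, Pi.single_eq_same, Pi.add_apply, Pi.add_apply, Pi.single_eq_same,
    Pi.single_eq_of_ne hpx.symm, Pi.single_eq_of_ne hqx, Pi.single_eq_of_ne hpq.symm] at h4
  exact absurd h4 (by decide)

theorem sym_false {k m : ℕ} (hm : 2 ≤ m) (h : Bas T R) (M : SymK T R (zl T R) (cv T R) k m)
    (hA : A ≤ T) (hoff : Off (zl T R) A) {z : G} (hzl : z ∈ l) (hz : Mov T R z)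
    (cov : ∀ v ∈ Y, ∃ u ∈ zl T R, ∃ c ∈ centralizer (A : Set G), v = u * c)
    (full : ∀ a ∈ A, a ∉ centralizer (Y : Set G) → ∀ z ∈ l, ∃ v ∈ Y, z = a * v * a⁻¹ * v⁻¹)
    (hne : ¬ A ≤ centralizer (Y : Set G)) (hQ : o2 R ≤ centralizer (Y : Set G)) : False := by
  classical
  have hT := h.hm.syl
  have hTR : ∀ t ∈ T, t ∈ R := fun t ht => hT.1 ht
  obtain ⟨-, h2⟩ := M.off A hA hoff
  have UT : ∀ t ∈ T, ∀ v ∈ zl T R, t * v * t⁻¹ ∈ zl T R := fun t ht => h.Un t (hTR t ht)
  have key : ∀ t ∈ T, (∀ v ∈ zl T R, M.e (t * v * t⁻¹) = M.e v) → t ∈ o2 R := by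
    intro t ht h0
    refine h.mem_o2 hz ht fun u hu => ?_
    rw [← M.ker _ (mul_mem (UT t ht u hu) (inv_mem hu)), e_div M.mul (UT t ht u hu) hu, h0 u hu,
      sub_self]
  -- a single transposition moves `Y`
  have stepA : ∀ n : ℕ, ∀ a ∈ A, a ∉ centralizer (Y : Set G) →
      ∀ τ : Fin k → Equiv.Perm (Fin (2 ^ m + 1)), ActsSym M.e (zl T R) a 1 τ →
      (Finset.univ.filter fun p : Fin k × Fin (2 ^ m + 1) => τ p.1 p.2 ≠ p.2).card ≤ n →
      ∃ b ∈ A, b ∉ centralizer (Y : Set G) ∧ ∃ i x y, x ≠ y ∧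
        ActsSym M.e (zl T R) b 1 (Function.update 1 i (Equiv.swap x y)) := by
    intro n
    induction n with
    | zero =>
      intro a ha haY τ hτ hn
      exfalso
      apply haY
      apply hQ
      refine key a (hA ha) fun v hv => ?_
      funext i x
      have h3 : τ i x = x := by
        by_contra h3
        have h4 : (i, x) ∈ Finset.univ.filter fun p : Fin k × Fin (2 ^ m + 1) => τ p.1 p.2 ≠ p.2 := by
          simpa using h3
        have h5 := Finset.card_pos.2 ⟨_, h4⟩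
        omega
      have h4 := hτ v hv i x
      rw [h3] at h4
      exact h4
    | succ n ih =>
      intro a ha haY τ hτ hn
      obtain ⟨τ', hτ', hprop⟩ := h2 a ha
      obtain rfl := sym_uniq hm M hτ' hτ
      by_cases hex : ∃ i x, τ' i x ≠ x
      · obtain ⟨i, x, hx⟩ := hex
        obtain ⟨hxx, b, hb, hbs⟩ := hprop i x hx
        by_cases hbY : b ∈ centralizer (Y : Set G)
        · refine ih (b * a) (mul_mem hb ha) (fun h3 => haY ?_)
            (fun j => (Function.update 1 i (Equiv.swap x (τ' i x)) :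
              Fin k → Equiv.Perm (Fin (2 ^ m + 1))) j * τ' j) ?_ ?_
          · have := mul_mem (inv_mem hbY) h3
            rwa [inv_mul_cancel_left] at this
          · intro v hv j y
            have e1 : b * a * v * (b * a)⁻¹ = b * (a * v * a⁻¹) * b⁻¹ := by group
            rw [e1, Equiv.Perm.mul_apply, hbs _ (UT a (hA ha) v hv)]
            exact hτ' v hv j y
          · have hlt : (Finset.univ.filter fun p : Fin k × Fin (2 ^ m + 1) =>
                ((Function.update 1 i (Equiv.swap x (τ' i x)) :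
                  Fin k → Equiv.Perm (Fin (2 ^ m + 1))) p.1 * τ' p.1) p.2 ≠ p.2).card <
                (Finset.univ.filter fun p : Fin k × Fin (2 ^ m + 1) => τ' p.1 p.2 ≠ p.2).card := by
              apply Finset.card_lt_card
              rw [Finset.ssubset_iff_of_subset]
              · refine ⟨(i, x), by simpa using hx, fun hmem => ?_⟩
                refine (Finset.mem_filter.1 hmem).2 ?_
                rw [Equiv.Perm.mul_apply]
                show (Function.update 1 i (Equiv.swap x (τ' i x)) :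
                  Fin k → Equiv.Perm (Fin (2 ^ m + 1))) i (τ' i x) = x
                rw [Function.update_self, Equiv.swap_apply_right]
              · rintro ⟨j, y⟩ hy
                simp only [Finset.mem_filter, Finset.mem_univ, true_and] at hy ⊢
                intro hfix
                apply hy
                rw [Equiv.Perm.mul_apply, hfix]
                by_cases hj : j = i
                · subst hj
                  rw [Function.update_self]
                  apply Equiv.swap_apply_of_ne_of_ne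
                  · rintro rfl
                    exact hx hfix
                  · rintro rfl
                    rw [hxx] at hfix
                    exact hx hfix.symm
                · rw [Function.update_of_ne hj]
                  rfl
            omega
        · exact ⟨b, hb, hbY, i, x, τ' i x, hx.symm, hbs⟩
      · push Not at hex
        exfalso
        apply haY
        apply hQ
        refine key a (hA ha) fun v hv => ?_
        funext i x
        have h4 := hτ v hv i x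
        rw [hex] at h4
        exact h4
  obtain ⟨a₀, ha₀, ha₀Y⟩ := SetLike.not_le_iff_exists.1 hne
  obtain ⟨τ₀, hτ₀, -⟩ := h2 a₀ ha₀
  obtain ⟨b, hb, hbY, i, x, y, hxy, hbs⟩ := stepA _ a₀ ha₀ ha₀Y τ₀ hτ₀ le_rfl
  -- `z` is supported on `{x, y}` in the block `i`
  obtain ⟨v, hv, ezv⟩ := full b hb hbY z hzl
  obtain ⟨u, hu, c, hc, rfl⟩ := cov v hv
  have hezu : z = b * u * b⁻¹ * u⁻¹ := by
    have h3 : b * c = c * b := mem_centralizer_iff.1 hc b hb
    rw [ezv]
    calc b * (u * c) * b⁻¹ * (u * c)⁻¹ = b * u * (c * b⁻¹) * c⁻¹ * u⁻¹ := by group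
      _ = b * u * (b⁻¹ * (b * c) * b⁻¹) * c⁻¹ * u⁻¹ := by group
      _ = b * u * b⁻¹ * u⁻¹ := by rw [h3]; group
  have hez : ∀ j w, M.e z j w =
      M.e u j ((Function.update 1 i (Equiv.swap x y) : Fin k → Equiv.Perm (Fin (2 ^ m + 1))) j w) -
        M.e u j w := by
    intro j w
    rw [hezu, e_div M.mul (UT b (hA hb) u hu) hu, Pi.sub_apply, Pi.sub_apply]
    congr 1
    have h3 := hbs u hu j
      ((Function.update 1 i (Equiv.swap x y) : Fin k → Equiv.Perm (Fin (2 ^ m + 1))) j w)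
    rw [← h3]
    have h4 : (Function.update 1 i (Equiv.swap x y) : Fin k → Equiv.Perm (Fin (2 ^ m + 1))) j
        ((Function.update 1 i (Equiv.swap x y) : Fin k → Equiv.Perm (Fin (2 ^ m + 1))) j w) = w := by
      by_cases hj : j = i
      · subst hj
        rw [Function.update_self, Equiv.swap_apply_self]
      · rw [Function.update_of_ne hj]
        rfl
    rw [h4]
    rfl
  have hz0 : M.e z ≠ 0 := fun h0 => hz.not_cv hT ((M.ker z hz.mem).1 h0)
  have hsupp : ∀ j w, M.e z j w ≠ 0 → j = i ∧ (w = x ∨ w = y) := by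
    intro j w hw
    rw [hez] at hw
    by_cases hj : j = i
    · subst hj
      refine ⟨rfl, ?_⟩
      by_contra hc'
      push Not at hc'
      apply hw
      rw [Function.update_self, Equiv.swap_apply_of_ne_of_ne hc'.1 hc'.2, sub_self]
    · exfalso
      apply hw
      rw [Function.update_of_ne hj]
      exact sub_self _
  obtain ⟨w₀, hw₀⟩ : ∃ w, M.e z i w ≠ 0 := by
    by_contra hall
    push Not at hall
    apply hz0
    funext j w
    by_contra hne'
    obtain ⟨rfl, -⟩ := hsupp j w hne'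
    exact hne' (hall w)
  -- one summand
  have hone : ∀ j, j = i := by
    intro j
    obtain ⟨t, ht, σ, τ, hact, hσ⟩ := M.trans i j
    have h3 := hact z hz.mem i w₀
    rw [hz.cen t ht, mul_inv_cancel_right, hσ] at h3
    have h4 : M.e z j (τ i w₀) ≠ 0 := by rw [h3]; exact hw₀
    exact (hsupp _ _ h4).1
  -- a `2 ^ m`-cycle
  obtain ⟨p, hp1, hp0, hpf, hptr⟩ := Cfsg.Agent.Omega.SQ1.SymCyc.exists_cyc m (by omega)
  obtain ⟨g, hg, hgA, -⟩ := M.lift fun _ => p
  obtain ⟨c', hc', N, hN⟩ := Cfsg.Agent.Omega.SQ1.SymCyc.exists_pow g m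
  have hgpow : ∀ n : ℕ, ActsSym M.e (zl T R) (g ^ n) 1 fun _ => p ^ n := by
    intro n
    induction n with
    | zero => intro v hv i x; simp
    | succ n ih =>
      intro v hv i x
      have e1 : g ^ (n + 1) * v * (g ^ (n + 1))⁻¹ = g ^ n * (g * v * g⁻¹) * (g ^ n)⁻¹ := by
        rw [pow_succ]; group
      have h3 := ih _ (h.Un g hg v hv) i (p x)
      have h4 := hgA v hv i x
      rw [e1, pow_succ, Equiv.Perm.mul_apply]
      exact h3.trans h4
  have h1m : 1 % 2 ^ m = 1 := Nat.mod_eq_of_lt (Nat.one_lt_two_pow (by omega))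
  have hpc : p ^ c' = p := by
    rw [← Nat.div_add_mod c' (2 ^ m), hc', h1m, pow_add, pow_mul, hp1, one_pow, one_mul, pow_one]
  have hg' := hgpow c'
  rw [hpc] at hg'
  have hgR : g ^ c' ∈ R := pow_mem hg _
  have hp2 : IsPGroup 2 (zpowers (g ^ c')) := by
    rintro ⟨w, hw⟩
    obtain ⟨m', rfl⟩ := mem_zpowers_iff.1 hw
    refine ⟨N, Subtype.ext ?_⟩
    show ((g ^ c') ^ m') ^ 2 ^ N = 1
    rw [← zpow_natCast, ← zpow_mul, mul_comm, zpow_mul, zpow_natCast, hN, one_zpow]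
  obtain ⟨S, hS, hgS⟩ := exists_syl hp2 ((zpowers_le (H := R)).2 hgR)
  obtain ⟨k', hk', ek'⟩ := syl_conj hS hT
  have hkT : k' * g ^ c' * k'⁻¹ ∈ T := by
    rw [← ek']
    exact ⟨g ^ c', hgS (mem_zpowers _), rfl⟩
  have hfix := hz.cen _ hkT
  have hz' : k'⁻¹ * z * k'⁻¹⁻¹ ∈ zl T R := h.Un _ (inv_mem hk') z hz.mem
  set z' := k'⁻¹ * z * k'⁻¹⁻¹ with hz'd
  have hfix' : g ^ c' * z' * (g ^ c')⁻¹ = z' := by
    have e1 : g ^ c' * z' * (g ^ c')⁻¹ =
        k'⁻¹ * ((k' * g ^ c' * k'⁻¹) * z) * (k' * g ^ c' * k'⁻¹)⁻¹ * k' := by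
      rw [hz'd]; group
    rw [e1, hfix, hz'd]; group
  have hkz : k' * z' * k'⁻¹ = z := by rw [hz'd]; group
  obtain ⟨σ, τ, hact⟩ := M.perm k' hk'
  have hs1 : ∀ w, M.e z' i w = M.e z i (τ i w) := by
    intro w
    have h3 := hact z' hz' i w
    rw [hkz, hone (σ i)] at h3
    exact h3.symm
  have hs2 : ∀ w, M.e z' i (p w) = M.e z' i w := by
    intro w
    have h3 := hg' z' hz' i w
    rw [hfix'] at h3
    exact h3
  have hsub : ∀ w, M.e z' i w ≠ 0 → w ∈ ({(τ i)⁻¹ x, (τ i)⁻¹ y} : Finset (Fin (2 ^ m + 1))) := by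
    intro w hw
    rw [hs1] at hw
    rcases (hsupp _ _ hw).2 with e | e
    · rw [← e]; simp
    · rw [← e]; simp
  have hpn : ∀ (n : ℕ) (w), M.e z' i ((p ^ n) w) = M.e z' i w := by
    intro n
    induction n with
    | zero => intro w; simp
    | succ n ih => intro w; rw [pow_succ', Equiv.Perm.mul_apply, hs2, ih]
  -- a nonzero letter in the support
  obtain ⟨q, hq0, hq⟩ : ∃ q, q ≠ 0 ∧ M.e z' i q ≠ 0 := by
    by_contra hall
    push Not at hall
    have h3 := M.even z' hz' i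
    rw [Finset.sum_eq_single 0 (fun b _ hb => hall b hb) (by simp)] at h3
    have h4 : M.e z' i ((τ i)⁻¹ w₀) ≠ 0 := by
      rw [hs1]
      simpa using hw₀
    by_cases h5 : (τ i)⁻¹ w₀ = 0
    · rw [h5] at h4
      exact h4 h3
    · exact h4 (hall _ h5)
  have hbig : (Finset.univ.erase (0 : Fin (2 ^ m + 1))).card ≤
      ({(τ i)⁻¹ x, (τ i)⁻¹ y} : Finset (Fin (2 ^ m + 1))).card := by
    apply Finset.card_le_card
    intro w hw
    have hw0 : w ≠ 0 := (Finset.mem_erase.1 hw).1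
    obtain ⟨n, hn⟩ := hptr q w hq0 hw0
    apply hsub
    rw [← hn, hpn]
    exact hq
  rw [Finset.card_erase_of_mem (Finset.mem_univ _), Finset.card_univ, Fintype.card_fin] at hbig
  have h5 := Finset.card_le_two (a := (τ i)⁻¹ x) (b := (τ i)⁻¹ y)
  have h6 : 2 ^ 2 ≤ 2 ^ m := Nat.pow_le_pow_right (by norm_num) hm
  omega

/-- **Part F** (#27055 (6)). -/
theorem cT_le (hFF : FFThm.Stmt.{u}) {T R Y l A : Subgroup G} (hT : Syl T R) (hP : IsMinPar T R)
    (hc : R ⊓ centralizer (o2 R : Set G) ≤ o2 R) (hA : A ≤ T) (hoff : Off (zl T R) A)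
    (TY : T ≤ normalizer (Y : Set G)) (Tl : T ≤ normalizer (l : Set G)) (hl : l ≤ zl T R)
    (hmv : ¬ R ≤ centralizer ((l ⊓ zc T : Subgroup G) : Set G))
    (com : Y ≤ centralizer (zl T R : Set G))
    (cov : ∀ v ∈ Y, ∃ u ∈ zl T R, ∃ c ∈ centralizer (A : Set G), v = u * c)
    (inl : ∀ a ∈ A, ∀ v ∈ Y, a * v * a⁻¹ * v⁻¹ ∈ l)
    (full : ∀ a ∈ A, a ∉ centralizer (Y : Set G) → ∀ z ∈ l, ∃ v ∈ Y, z = a * v * a⁻¹ * v⁻¹)
    (full' : ∀ v ∈ Y, v ∉ l → ∀ z ∈ l, ∃ a ∈ A, z = a * v * a⁻¹ * v⁻¹)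
    (hne : ¬ A ≤ centralizer (Y : Set G)) (hQ : o2 R ≤ centralizer (Y : Set G)) :
    T ⊓ centralizer (Y : Set G) ≤ o2 R := by
  have h := Bas.of hT hP hc
  obtain ⟨r, hr, hrz⟩ := SetLike.not_le_iff_exists.1 hmv
  rw [mem_centralizer_iff] at hrz
  push Not at hrz
  obtain ⟨z, hz, hne'⟩ := hrz
  have hzl : z ∈ l := hz.1
  have hzM : Mov T R z := by
    refine ⟨hl hz.1, fun t ht => ?_, fun h0 => hne' (h0 r hr).symm⟩
    have := (ChoiceBase.mem_zc.1 hz.2).2.2 t ht
    exact this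
  obtain ⟨-, hC⟩ := hFF G T R hT hP hc ⟨A, hA.trans hT.1, hoff⟩
  rcases hC with ⟨F, iF, fF, cF, k, hk, ⟨M⟩⟩ | ⟨k, m, hk, hm, ⟨M⟩⟩
  · exact nat_le h M hA hoff TY hl hzl hzM cov inl full hne hQ
  · exact (sym_false hm h M hA hoff hzl hzM cov full hne hQ).elim

end Cfsg.Agent.Omega.NOThreeL.RWide.UniT.FF

end

section


/-!
# UNI_T: (Y1), (Y2), (Y3) of #27590

From the output of (X3) for a pure member `A` moving the block `j` (`X3`), from the exchange dichotomy (`Exc`) and `fixV`: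
`R` normalises `⨆ b, N b`.
-/

set_option autoImplicit false
set_option linter.unusedSectionVars false
set_option linter.unusedVariables false

namespace Cfsg.Agent.Omega.NOThreeL.RWide.UniT.YY

open Subgroup Cfsg Cfsg.Agent.Omega.MinPar
open Cfsg.Agent.ZN (zc o2 zl)
open Cfsg.Agent.ZN.ChoiceBase (cj AA mem_cj cj_mono cj_le_iff cj_cj cj_inv_cj cj_cj_inv card_cj cj_inf
  cj_centralizer cj_mem_AA cj_eq_of_mem_normalizer mem_normalizer_iff_cj isElementaryAbelian_cj)
open Cfsg.Agent.ZN.ChoiceSit (Syl o2_le_syl)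
open Cfsg.Agent.MinSimple.MinParabolic (IsMinPar)
open Cfsg.Agent.MinSimple.VModule (le_normalizer_zl zl_le le_normalizer_o2)
open Cfsg.Agent.Omega.FFThm (Off)

universe u v

variable {G : Type u} [Group G] {ι : Type v}

/-- The output of (X3). -/
structure X3 (T O R : Subgroup G) (N l : ι → Subgroup G) (j : ι) (A : Subgroup G) : Prop where
  mem : A ∈ AA O
  pure : ∀ c, c ≠ j → A ≤ centralizer (N c : Set G)
  nQ : ¬ A ≤ o2 R
  full : Full A (N j) (l j)
  cU : A ⊓ centralizer (zl T R : Set G) ≤ centralizer (N j : Set G)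
  cov : ∀ v ∈ N j, ∃ u ∈ zl T R, ∃ c ∈ centralizer (A : Set G), v = u * c
  lU : l j ≤ zl T R
  QN : o2 R ≤ centralizer (N j : Set G)

/-- The output of (EXC). -/
def Exc (T R : Subgroup G) (N l : ι → Subgroup G) (A : Subgroup G) (y : G) : Prop := ∀ b,
  (A ⊓ centralizer (zl T R : Set G) ≤ centralizer (cj y (N b) : Set G) →
    R ≤ normalizer ((N b ⊔ zl T R : Subgroup G) : Set G)) ∧
  (¬ A ⊓ centralizer (zl T R : Set G) ≤ centralizer (cj y (N b) : Set G) → R ≤ normalizer (l b : Set G))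

variable [Finite G] {T O R : Subgroup G} {N l E : ι → Subgroup G} {j : ι}

theorem card_Nl (h : Rts T O N l) {b : ι} {A : Subgroup G} (hf : Full A (N b) (l b)) :
    N b ⊓ centralizer (A : Set G) = l b := by
  apply le_antisymm
  · rintro v ⟨hv, hvA⟩
    by_contra hvl
    apply h.lne b
    rw [eq_bot_iff]
    intro z hz
    obtain ⟨a, ha, e⟩ := hf.onA v hv hvl z hz
    rw [mem_bot, ← e, mem_centralizer_iff.1 hvA a ha]
    group
  · exact le_inf (h.lN b) fun z hz => mem_centralizer_iff.2 fun a ha =>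
      (mem_centralizer_iff.1 (hf.cent ha) z hz).symm

/-! ### Elementary facts -/

section facts

variable (h : Fr T O R N l E j)

include h

theorem NT (b : ι) : N b ≤ T := (h.NO b).trans h.OT

theorem U_le {c : ι} (hc : c ≠ j) : zl T R ≤ E c := zl_le (h.ZE c hc) (h.RE c hc)

theorem UO : zl T R ≤ O := by
  obtain ⟨c, hc⟩ := h.ex
  exact (U_le h hc).trans (h.EO c hc)

theorem Ue : IsElementaryAbelian 2 (zl T R) := by
  obtain ⟨c, hc⟩ := h.ex
  exact eab_mono (h.eab c hc) (U_le h hc)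

theorem UN (b : ι) : zl T R ≤ centralizer (N b : Set G) := by
  by_cases hb : b = j
  · subst hb
    obtain ⟨c, hc⟩ := h.ex
    exact (U_le h hc).trans ((comA (h.eab c hc)).trans (centralizer_le (h.jE c hc)))
  · exact (U_le h hb).trans ((comA (h.eab b hb)).trans (centralizer_le (h.NE b hb)))

theorem QT : o2 R ≤ T := o2_le_syl h.syl

theorem finι : Finite ι := by
  have hinj : Function.Injective N := by
    intro a b e
    by_contra hab
    have h1 := h.dis a b hab
    rw [e, inf_idem] at h1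
    exact h.lne b (le_bot_iff.1 ((h.lN b).trans h1.le))
  exact Finite.of_injective N hinj

theorem Q_eq {t : G} : t ∈ T ⊓ centralizer ((⨆ b, N b : Subgroup G) : Set G) ↔
    t ∈ T ∧ ∀ b, t ∈ centralizer (N b : Set G) := by
  constructor
  · rintro ⟨h1, h2⟩
    exact ⟨h1, fun b => centralizer_le (le_iSup N b) h2⟩
  · rintro ⟨h1, h2⟩
    refine ⟨h1, ?_⟩
    have h3 : (⨆ b, N b) ≤ centralizer ({t} : Set G) := iSup_le fun b v hv =>
      mem_centralizer_singleton_iff.2 (mem_centralizer_iff.1 (h2 b) v hv)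
    exact mem_centralizer_iff.2 fun v hv => mem_centralizer_singleton_iff.1 (h3 hv)

/-- (F) -/
theorem cT (hFF : FFThm.Stmt.{u}) {A : Subgroup G} (x : X3 T O R N l j A) :
    T ⊓ centralizer (N j : Set G) ≤ o2 R := by
  have hAT : A ≤ T := x.mem.2.1.trans h.OT
  refine UniT.FF.cT_le hFF h.syl h.par h.cR hAT ?_ (h.TN j) (h.Tl j) x.lU ?_ ?_ x.cov x.full.inl ?_ ?_
    x.full.ne x.QN
  · refine ⟨x.mem.1, fun h1 => x.nQ ?_, thom x.mem (Ue h) (UO h)⟩
    rw [← h.UQ]
    exact le_inf hAT h1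
  · intro h1
    apply h.mv
    refine h1.trans (centralizer_le ?_)
    rintro z ⟨hz, hzT⟩
    refine ⟨hz, Cfsg.Agent.ZN.ChoiceBase.mem_zc.2 ⟨NT h j (h.lN j hz), ?_, fun t ht => ?_⟩⟩
    · rw [pow_two]; exact h.sq j z (h.lN j hz)
    · exact mem_centralizer_iff.1 hzT t ht
  · obtain ⟨c, hc⟩ := h.ex
    exact (h.jE c hc).trans ((comA (h.eab c hc)).trans (centralizer_le (U_le h hc)))
  · intro a ha han z hz
    obtain ⟨v, hv, e⟩ := x.full.onN a ha han z hz
    exact ⟨v, hv, e.symm⟩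
  · intro v hv hvl z hz
    obtain ⟨a, ha, e⟩ := x.full.onA v hv hvl z hz
    exact ⟨a, ha, e.symm⟩

end facts

/-! ### (Y1) -/

section main

variable (h : Fr T O R N l E j) {A : Subgroup G} (x : X3 T O R N l j A)
  (F : T ⊓ centralizer (N j : Set G) ≤ o2 R)

include h x F

theorem QRU : o2 R ≤ centralizer (zl T R : Set G) := by
  rw [← h.UQ]; exact inf_le_right

/-- `C_Y(A) ≤ Z_J` -/
theorem cYA : (N j ⊔ zl T R) ⊓ centralizer (A : Set G) ≤ ⨆ b, l b := by
  classical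
  have := finι h
  have hAT : A ≤ T := x.mem.2.1.trans h.OT
  rintro n ⟨hn, hnA⟩
  obtain ⟨c₀, hc₀⟩ := h.ex
  have hYE : N j ⊔ zl T R ≤ E c₀ := sup_le (h.jE c₀ hc₀) (U_le h hc₀)
  have hnE := hYE hn
  have hnT : n ∈ T := h.OT (h.EO c₀ hc₀ hnE)
  have hn2 : n ^ 2 = 1 := (h.eab c₀ hc₀).2 n hnE
  have hnN : ∀ b, n ∈ centralizer (N b : Set G) := fun b =>
    (sup_le (h.com j b) (UN h b) : N j ⊔ zl T R ≤ _) hn
  have hQ := (Q_eq h).2 ⟨hnT, hnN⟩
  have hln : (⨆ b, l b) ≤ ⨆ b, N b := iSup_mono h.lN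
  have hcomm : ∀ X : Subgroup G, X ≤ T → X ≤ centralizer (N j : Set G) → ∀ t ∈ X, t * n = n * t := by
    intro X hXT hXN t ht
    have h1 : X ≤ centralizer ((N j ⊔ zl T R : Subgroup G) : Set G) := by
      have h2 : N j ⊔ zl T R ≤ centralizer (X : Set G) := by
        refine sup_le (fun v hv => mem_centralizer_iff.2 fun t ht =>
          (mem_centralizer_iff.1 (hXN ht) v hv).symm) fun v hv => mem_centralizer_iff.2 fun t ht => ?_
        exact (mem_centralizer_iff.1 (QRU h x F (F ⟨hXT ht, hXN ht⟩)) v hv).symm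
      intro t ht
      exact mem_centralizer_iff.2 fun v hv => (mem_centralizer_iff.1 (h2 hv) t ht).symm
    exact (mem_centralizer_iff.1 (h1 ht) n hn).symm
  -- pure members which centralise `n`
  have hmem : ∀ b, ∃ A' ≤ T, Full A' (N b) (l b) ∧ (∀ c, c ≠ b → A' ≤ centralizer (N c : Set G)) ∧
      ∀ t ∈ A', t * n = n * t := by
    intro b
    by_cases hb : b = j
    · subst hb
      exact ⟨A, hAT, x.full, x.pure, fun t ht => mem_centralizer_iff.1 hnA t ht⟩
    · obtain ⟨A', hA', hA'b, hA'c⟩ := h.pure b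
      have hA'T : A' ≤ T := hA'.2.1.trans h.OT
      have hNe : IsElementaryAbelian 2 (N b) := eab_mono (h.eab b hb) (h.NE b hb)
      have h1 := (h.off b A' hA'T hA'.1 (thom hA' hNe (h.NO b))).resolve_left hA'b
      exact ⟨A', hA'T, h1, hA'c, hcomm A' hA'T (hA'c j (Ne.symm hb))⟩
  have key : ∀ s : Finset ι, ∀ t ∈ T, t ∈ centralizer ((⨆ b, l b : Subgroup G) : Set G) →
      (∀ b, b ∉ s → t ∈ centralizer (N b : Set G)) → t * n = n * t := by
    intro s
    induction s using Finset.induction_on with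
    | empty =>
      intro t ht htl htN
      have h1 : T ⊓ centralizer (N j : Set G) ≤ centralizer (N j : Set G) := inf_le_right
      exact hcomm _ inf_le_left h1 t ⟨ht, htN j (by simp)⟩
    | insert b s hb ih =>
      intro t ht htl htN
      obtain ⟨A', hA'T, hf, hpure, hn'⟩ := hmem b
      have htl' : ∀ c, t ∈ centralizer (l c : Set G) := fun c => centralizer_le (le_iSup l c) htl
      obtain ⟨a, ha, hat⟩ := h.rep b A' hA'T hf t ht (htl' b)
      have h1 : a⁻¹ * t * n = n * (a⁻¹ * t) := by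
        refine ih _ (mul_mem (inv_mem (hA'T ha)) ht) (mul_mem (inv_mem ?_) htl) fun c hc => ?_
        · have h2 : (⨆ b, l b) ≤ centralizer (A' : Set G) := by
            refine iSup_le fun c v hv => mem_centralizer_iff.2 fun a ha => ?_
            by_cases hcb : c = b
            · subst hcb
              exact (mem_centralizer_iff.1 (hf.cent ha) v hv).symm
            · exact (mem_centralizer_iff.1 (hpure c hcb ha) v (h.lN c hv)).symm
          exact mem_centralizer_iff.2 fun v hv => (mem_centralizer_iff.1 (h2 hv) a ha).symm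
        · by_cases hcb : c = b
          · rw [hcb]; exact hat
          · exact mul_mem (inv_mem (hpure c hcb ha)) (htN c (by simp [hcb, hc]))
      have h2 : Commute (a⁻¹ * t) n := h1
      have h3 : Commute a n := hn' a ha
      have h4 := h3.mul_left h2
      rwa [mul_inv_cancel_left] at h4
  refine h.I4 (Cfsg.Agent.ZN.ChoiceBase.mem_zc.2 ⟨⟨hnT, centralizer_le hln hQ.2⟩, hn2, ?_⟩)
  rintro t ⟨ht, htl⟩
  have : Fintype ι := Fintype.ofFinite ι
  exact key Finset.univ t ht htl (by simp)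

/-- `Y = N_j C_Y(A)` -/
theorem Y_eq : N j ⊔ ((N j ⊔ zl T R) ⊓ centralizer (A : Set G)) = N j ⊔ zl T R := by
  have hAT : A ≤ T := x.mem.2.1.trans h.OT
  obtain ⟨c₀, hc₀⟩ := h.ex
  have hYE : N j ⊔ zl T R ≤ E c₀ := sup_le (h.jE c₀ hc₀) (U_le h hc₀)
  have hYe := eab_mono (h.eab c₀ hc₀) hYE
  have hYO : N j ⊔ zl T R ≤ O := hYE.trans (h.EO c₀ hc₀)
  set Yh := N j ⊔ zl T R with hYh
  set C := Yh ⊓ centralizer (A : Set G) with hC
  have h1 := thom x.mem hYe hYO
  have h2 : A ⊓ centralizer (Yh : Set G) = A ⊓ centralizer (N j : Set G) := by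
    apply le_antisymm
    · exact inf_le_inf_left A (centralizer_le (show N j ≤ Yh from le_sup_left))
    · rintro a ⟨ha, haN⟩
      refine ⟨ha, ?_⟩
      have h3 : Yh ≤ centralizer ({a} : Set G) := by
        refine sup_le (fun v hv => mem_centralizer_singleton_iff.2 (mem_centralizer_iff.1 haN v hv))
          fun v hv => mem_centralizer_singleton_iff.2 ?_
        exact mem_centralizer_iff.1 (QRU h x F (F ⟨hAT ha, haN⟩)) v hv
      exact mem_centralizer_iff.2 fun v hv => mem_centralizer_singleton_iff.1 (h3 hv)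
  rw [h2, ← hC] at h1
  have h4 : N j ⊓ C = l j := by
    rw [hC, ← inf_assoc, inf_eq_left.2 (show N j ≤ Yh from le_sup_left), card_Nl h.toRts x.full]
  have h5 : C ≤ centralizer (N j : Set G) :=
    inf_le_left.trans ((comA hYe).trans (centralizer_le (show N j ≤ Yh from le_sup_left)))
  have h6 := Cfsg.Agent.PLocal.ElemAbSup.card_sup_mul_card_inf h5
  rw [h4, h.cardN j] at h6
  have hl0 : 0 < Nat.card (l j) := Nat.card_pos
  have h7 : Nat.card ↥(N j ⊔ C) = Nat.card (l j) * Nat.card C := by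
    apply Nat.eq_of_mul_eq_mul_right hl0
    rw [h6]; ring
  have ha0 : 0 < Nat.card ↥(A ⊓ centralizer (N j : Set G)) := Nat.card_pos
  have h8 : Nat.card Yh ≤ Nat.card (l j) * Nat.card C := by
    rw [x.full.cardA] at h1
    apply Nat.le_of_mul_le_mul_right _ ha0
    calc Nat.card Yh * Nat.card ↥(A ⊓ centralizer (N j : Set G)) ≤ _ := h1
      _ = Nat.card (l j) * Nat.card C * Nat.card ↥(A ⊓ centralizer (N j : Set G)) := by ring
  exact Subgroup.eq_of_le_of_card_ge (sup_le le_sup_left inf_le_left) (h7 ▸ h8)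

/-- (Y1) -/
theorem Y1 : zl T R ≤ N j ⊔ ⨆ b, l b := by
  have h1 : zl T R ≤ N j ⊔ zl T R := le_sup_right
  rw [← Y_eq h x F] at h1
  exact h1.trans (sup_le_sup_left (cYA h x F) _)

theorem U_le_V : zl T R ≤ ⨆ b, N b :=
  (Y1 h x F).trans (sup_le (le_iSup N j) (iSup_mono h.lN))

/-- the members `C_A(N c) N c` -/
theorem memc {c b : ι} (hc : c ≠ j) (hb : b ≠ j) {r : G} (hr : r ∈ R) :
    ∀ a ∈ cj r (N c), ∀ v ∈ N b, a * v * a⁻¹ * v⁻¹ ∈ l b := by
  obtain ⟨A', hA', hA'b, hA'c⟩ := h.pure c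
  have hA'T : A' ≤ T := hA'.2.1.trans h.OT
  have hNe : ∀ b, b ≠ j → IsElementaryAbelian 2 (N b) := fun b hb => eab_mono (h.eab b hb) (h.NE b hb)
  have hf := (h.off c A' hA'T hA'.1 (thom hA' (hNe c hc) (h.NO c))).resolve_left hA'b
  have hM : (A' ⊓ centralizer (N c : Set G)) ⊔ N c ∈ AA O := by
    refine swap_mem hA' (hNe c hc) (h.NO c) ?_
    rw [card_Nl h.toRts hf, hf.cardA, h.cardN c]
    apply le_of_eq
    ring
  set M := (A' ⊓ centralizer (N c : Set G)) ⊔ N c with hMd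
  have hMT : M ≤ T := hM.2.1.trans h.OT
  have hMN : M ≤ centralizer (N j : Set G) :=
    sup_le (inf_le_left.trans (hA'c j (Ne.symm hc))) (h.com c j)
  have hMQ : M ≤ o2 R := (le_inf hMT hMN).trans F
  have hMr : cj r M ≤ T := by
    have h1 := cj_mono r hMQ
    rw [cj_eq_of_mem_normalizer (le_normalizer_o2 R hr)] at h1
    exact h1.trans (QT h)
  have hNr : N b ≤ cj r O := by
    have h1 := cj_mono r (h.EO b hb)
    rw [cj_eq_of_mem_normalizer (h.RE b hb hr)] at h1
    exact (h.NE b hb).trans h1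
  have h2 := thom (cj_mem_AA r hM) (hNe b hb) hNr
  have h3 : cj r (N c) ≤ cj r M := cj_mono r le_sup_right
  rcases h.off b _ hMr (isElementaryAbelian_cj r hM.1) h2 with h4 | h4
  · intro a ha v hv
    rw [← mem_centralizer_iff.1 (h4 (h3 ha)) v hv]
    have e : v * a * a⁻¹ * v⁻¹ = 1 := by group
    rw [e]
    exact one_mem _
  · intro a ha v hv
    exact h4.inl a (h3 ha) v hv

/-- (Y2) -/
theorem Y2 {y : G} (hy : y ∈ R) (e : Exc T R N l A y)
    (fixV : ∀ c, c ≠ j → ∀ X : Subgroup G, X ≤ E c →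
      X ≤ T ⊓ centralizer ((⨆ b, N b : Subgroup G) : Set G) →
      (∀ x ∈ X, ∀ g ∈ T ⊓ centralizer ((⨆ b, N b : Subgroup G) : Set G), x * g * x⁻¹ * g⁻¹ ∈ l c) →
      T ⊓ centralizer ((⨆ b, N b : Subgroup G) : Set G) ≤ centralizer (X : Set G))
    {c : ι} (hc : c ≠ j) : R ≤ normalizer ((N c ⊔ zl T R : Subgroup G) : Set G) := by
  by_contra hcon
  have hA0 : ¬ A ⊓ centralizer (zl T R : Set G) ≤ centralizer (cj y (N c) : Set G) :=
    fun h1 => hcon ((e c).1 h1)
  have hRl := (e c).2 hA0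
  have hAT : A ≤ T := x.mem.2.1.trans h.OT
  set W := cj y (N c) with hW
  have hWE : W ≤ E c := by
    have h1 := cj_mono y (h.NE c hc)
    rwa [cj_eq_of_mem_normalizer (h.RE c hc hy)] at h1
  have hWT : W ≤ T := hWE.trans ((h.EO c hc).trans h.OT)
  have hEc := comA (h.eab c hc)
  have hWN : ∀ b, W ≤ centralizer (N b : Set G) := by
    intro b
    by_cases hbj : b = j
    · subst hbj
      exact hWE.trans (hEc.trans (centralizer_le (h.jE c hc)))
    by_cases hbc : b = c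
    · subst hbc
      exact hWE.trans (hEc.trans (centralizer_le (h.NE b hc)))
    intro a ha
    refine mem_centralizer_iff.2 fun v hv => ?_
    have h1 := memc h x F hc hbj hy a ha v hv
    have h2 : a * v * a⁻¹ * v⁻¹ ∈ l c := by
      have hn : y⁻¹ * a * y ∈ N c := mem_cj.1 ha
      have hv' : y⁻¹ * v * y ∈ cj y⁻¹ (N b) := by
        rw [mem_cj]
        have e1 : y⁻¹⁻¹ * (y⁻¹ * v * y) * y⁻¹ = v := by group
        rw [e1]; exact hv
      have h3 := inv_mem (memc h x F hbj hc (inv_mem hy) _ hv' _ hn)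
      have h4 := (mem_normalizer_iff.1 (hRl hy) _).1 h3
      have e2 : y * (y⁻¹ * v * y * (y⁻¹ * a * y) * (y⁻¹ * v * y)⁻¹ * (y⁻¹ * a * y)⁻¹)⁻¹ * y⁻¹ =
          a * v * a⁻¹ * v⁻¹ := by group
      rwa [e2] at h4
    have h3 : a * v * a⁻¹ * v⁻¹ = 1 := by
      have h4 : a * v * a⁻¹ * v⁻¹ ∈ N b ⊓ N c := ⟨h.lN b h1, h.lN c h2⟩
      rw [h.dis b c hbc] at h4
      exact mem_bot.1 h4
    have h4 : a * v = v * a := by
      calc a * v = a * v * a⁻¹ * v⁻¹ * (v * a) := by group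
        _ = v * a := by rw [h3, one_mul]
    exact h4.symm
  have hWQ : W ≤ T ⊓ centralizer ((⨆ b, N b : Subgroup G) : Set G) := fun a ha =>
    (Q_eq h).2 ⟨hWT ha, fun b => hWN b ha⟩
  have hfix := fixV c hc W hWE hWQ (by
    intro w hw g hg
    have hg2 := (Q_eq h).1 hg
    have hgR : g ∈ o2 R := F ⟨hg2.1, hg2.2 j⟩
    have hg' : y⁻¹ * g * y ∈ o2 R := by
      have h1 := (mem_normalizer_iff.1 (le_normalizer_o2 R (inv_mem hy)) g).1 hgR
      rwa [inv_inv] at h1
    have hn : y⁻¹ * w * y ∈ N c := mem_cj.1 hw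
    have hcl : y⁻¹ * g * y ∈ centralizer (l c : Set G) := by
      refine mem_centralizer_iff.2 fun z hz => ?_
      have h1 := (mem_normalizer_iff.1 (hRl hy) z).1 hz
      have h2 := mem_centralizer_iff.1 (hg2.2 c) _ (h.lN c h1)
      calc z * (y⁻¹ * g * y) = y⁻¹ * (y * z * y⁻¹ * g) * y := by group
        _ = y⁻¹ * (g * (y * z * y⁻¹)) * y := by rw [h2]
        _ = y⁻¹ * g * y * z := by group
    have h3 := inv_mem ((h.rt c _ (QT h hg') hcl).1 _ hn)
    have h4 := (mem_normalizer_iff.1 (hRl hy) _).1 h3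
    have e2 : y * (y⁻¹ * g * y * (y⁻¹ * w * y) * (y⁻¹ * g * y)⁻¹ * (y⁻¹ * w * y)⁻¹)⁻¹ * y⁻¹ =
        w * g * w⁻¹ * g⁻¹ := by group
    rwa [e2] at h4)
  apply hA0
  refine le_trans ?_ hfix
  intro a ha
  refine (Q_eq h).2 ⟨hAT ha.1, fun b => ?_⟩
  by_cases hb : b = j
  · subst hb
    exact x.cU ha
  · exact x.pure b hb ha.1

/-- (Y3) -/
theorem Y3 {y : G} (hy : y ∈ R) (e : Exc T R N l A y)
    (fixV : ∀ c, c ≠ j → ∀ X : Subgroup G, X ≤ E c →
      X ≤ T ⊓ centralizer ((⨆ b, N b : Subgroup G) : Set G) →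
      (∀ x ∈ X, ∀ g ∈ T ⊓ centralizer ((⨆ b, N b : Subgroup G) : Set G), x * g * x⁻¹ * g⁻¹ ∈ l c) →
      T ⊓ centralizer ((⨆ b, N b : Subgroup G) : Set G) ≤ centralizer (X : Set G)) :
    R ≤ normalizer ((⨆ b, N b : Subgroup G) : Set G) := by
  have hall : ∀ b, R ≤ normalizer ((N b ⊔ zl T R : Subgroup G) : Set G) := by
    intro b
    by_cases hb : b = j
    · subst hb
      apply (e b).1
      have h1 : A ⊓ centralizer (zl T R : Set G) ≤ o2 R := by
        rw [← h.UQ]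
        exact inf_le_inf_right _ (x.mem.2.1.trans h.OT)
      have h2 := cj_mono y x.QN
      rw [cj_eq_of_mem_normalizer (le_normalizer_o2 R hy), cj_centralizer] at h2
      exact h1.trans h2
    · exact Y2 h x F hy e fixV hb
  intro g hg
  rw [mem_normalizer_iff_cj]
  have h1 : (⨆ b, N b) = ⨆ b, (N b ⊔ zl T R) := by
    apply le_antisymm
    · exact iSup_mono fun b => le_sup_left
    · exact iSup_le fun b => sup_le (le_iSup N b) (U_le_V h x F)
  rw [h1]
  show (⨆ b, (N b ⊔ zl T R)).map _ = _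
  rw [Subgroup.map_iSup]
  exact iSup_congr fun b => mem_normalizer_iff_cj.1 (hall b hg)

end main

/-- **(Y)**: the end of the active case. -/
theorem main (hFF : FFThm.Stmt.{u}) (h : Fr T O R N l E j) {A : Subgroup G} (x : X3 T O R N l j A)
    {y : G} (hy : y ∈ R) (e : Exc T R N l A y)
    (fixV : ∀ c, c ≠ j → ∀ X : Subgroup G, X ≤ E c →
      X ≤ T ⊓ centralizer ((⨆ b, N b : Subgroup G) : Set G) →
      (∀ x ∈ X, ∀ g ∈ T ⊓ centralizer ((⨆ b, N b : Subgroup G) : Set G), x * g * x⁻¹ * g⁻¹ ∈ l c) →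
      T ⊓ centralizer ((⨆ b, N b : Subgroup G) : Set G) ≤ centralizer (X : Set G)) :
    R ≤ normalizer ((⨆ b, N b : Subgroup G) : Set G) :=
  Y3 h x (cT h hFF x) hy e fixV

end Cfsg.Agent.Omega.NOThreeL.RWide.UniT.YY

end

section


/-!
# UNI_T: LEMMA FIX for one element (helper860 #27010 (7), helper528 #27296 (B2), helper902)

`c ≠ j`, `X ≤ E c`, `X ≤ Q = C_T(∏ N b)`, `[X, Q] ≤ l c` ⟹ `[X, Q] = 1`.

* `quot_le`, `quot_card` : counting cosets;
* **`Fr.fixX`** (the literal `fixV` of #27590, without `X ≤ Q`).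
-/

set_option autoImplicit false
set_option linter.unusedSectionVars false

namespace Cfsg.Agent.Omega.NOThreeL.RWide.UniT

open Subgroup Cfsg Cfsg.Agent.Omega.MinPar
open Cfsg.Agent.ZN (zc o2 zl)
open Cfsg.Agent.ZN.ChoiceBase (cj AA mem_cj cj_mono cj_eq_of_mem_normalizer)

universe u v

variable {G : Type u} [Group G] {ι : Type v}

namespace FixV

/-- `F N = F ⊔ N` -/
theorem dec {F N : Subgroup G} (h : N ≤ normalizer (F : Set G)) {x : G} (hx : x ∈ F ⊔ N) :
    ∃ f ∈ F, ∃ n ∈ N, x = f * n := by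
  have key : ∀ n ∈ N, ∀ f ∈ F, n * f * n⁻¹ ∈ F := fun n hn f hf => (mem_normalizer_iff.1 (h hn) f).1 hf
  let K : Subgroup G :=
    { carrier := {x | ∃ f ∈ F, ∃ n ∈ N, x = f * n}
      one_mem' := ⟨1, one_mem F, 1, one_mem N, by simp⟩
      mul_mem' := by
        rintro _ _ ⟨f, hf, n, hn, rfl⟩ ⟨f', hf', n', hn', rfl⟩
        exact ⟨f * (n * f' * n⁻¹), mul_mem hf (key n hn f' hf'), n * n', mul_mem hn hn', by group⟩
      inv_mem' := by
        rintro _ ⟨f, hf, n, hn, rfl⟩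
        exact ⟨n⁻¹ * f⁻¹ * n⁻¹⁻¹, key _ (inv_mem hn) _ (inv_mem hf), n⁻¹, inv_mem hn, by group⟩ }
  have h1 : F ⊔ N ≤ K := sup_le (fun f hf => ⟨f, hf, 1, one_mem N, by simp⟩) fun n hn => ⟨1, one_mem F, n, hn, by simp⟩
  exact h1 hx

/-- `|A| = |A / A₀| |A₀|` -/
theorem quot_card {A A0 : Subgroup G} (h : A0 ≤ A) :
    Nat.card A = Nat.card (A ⧸ A0.subgroupOf A) * Nat.card A0 := by
  have h1 := Subgroup.card_eq_card_quotient_mul_card_subgroup (A0.subgroupOf A)
  rwa [Nat.card_congr (Subgroup.subgroupOfEquivOfLe h).toEquiv] at h1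

/-- `|A / A₀| ≤ |S|` from a map to `S` which separates the cosets -/
theorem quot_le [Finite G] {A A0 S : Subgroup G} (f : G → G) (hf : ∀ a ∈ A, f a ∈ S)
    (hi : ∀ a ∈ A, ∀ b ∈ A, f a = f b → a⁻¹ * b ∈ A0) : Nat.card (A ⧸ A0.subgroupOf A) ≤ Nat.card S := by
  classical
  refine Nat.card_le_card_of_injective
    (fun τ : A ⧸ A0.subgroupOf A => (⟨f (τ.out : A), hf _ (τ.out : A).2⟩ : S)) ?_
  intro τ σ h
  have h1 : f (τ.out : A) = f (σ.out : A) := congrArg Subtype.val h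
  have h2 := hi _ (τ.out : A).2 _ (σ.out : A).2 h1
  have h3 : ((τ.out : A) : A ⧸ A0.subgroupOf A) = ((σ.out : A) : A ⧸ A0.subgroupOf A) := by
    rw [QuotientGroup.eq, mem_subgroupOf]
    exact h2
  rwa [QuotientGroup.out_eq', QuotientGroup.out_eq'] at h3

/-- `|A / A₀| < |Y / M|` from a map which separates the cosets and misses the trivial coset -/
theorem quot_lt [Finite G] {A A0 Y M : Subgroup G} (f : G → G) (hf : ∀ a ∈ A, f a ∈ Y)
    (hi : ∀ a ∈ A, ∀ b ∈ A, (f a)⁻¹ * f b ∈ M → a⁻¹ * b ∈ A0) (h0 : ∀ a ∈ A, f a ∉ M) :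
    Nat.card (A ⧸ A0.subgroupOf A) < Nat.card (Y ⧸ M.subgroupOf Y) := by
  classical
  let φ : A ⧸ A0.subgroupOf A → Y ⧸ M.subgroupOf Y := fun τ => ((⟨f (τ.out : A), hf _ (τ.out : A).2⟩ : Y) : _)
  have hφ : Function.Injective φ := by
    intro τ σ h
    have h1 : (f (τ.out : A))⁻¹ * f (σ.out : A) ∈ M := by
      have h2 := QuotientGroup.eq.1 h
      rw [mem_subgroupOf] at h2
      exact h2
    have h2 := hi _ (τ.out : A).2 _ (σ.out : A).2 h1
    have h3 : ((τ.out : A) : A ⧸ A0.subgroupOf A) = ((σ.out : A) : A ⧸ A0.subgroupOf A) := by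
      rw [QuotientGroup.eq, mem_subgroupOf]
      exact h2
    rwa [QuotientGroup.out_eq', QuotientGroup.out_eq'] at h3
  have : Fintype (A ⧸ A0.subgroupOf A) := Fintype.ofFinite _
  have : Fintype (Y ⧸ M.subgroupOf Y) := Fintype.ofFinite _
  rw [Nat.card_eq_fintype_card, Nat.card_eq_fintype_card]
  refine Fintype.card_lt_of_injective_of_notMem φ hφ (b := ((1 : Y) : Y ⧸ M.subgroupOf Y)) ?_
  rintro ⟨τ, hτ⟩
  apply h0 _ (τ.out : A).2
  have h2 := QuotientGroup.eq.1 hτ.symm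
  rw [mem_subgroupOf] at h2
  simpa using h2

end FixV

namespace Fr

variable [Finite G] {T O R : Subgroup G} {N l E : ι → Subgroup G} {j : ι}

open FixV

/-- **LEMMA FIX** -/
theorem fixX (h : Fr T O R N l E j) {c : ι} (hc : c ≠ j) {X : Subgroup G} (hX : X ≤ E c)
    (hl : ∀ x ∈ X, ∀ g ∈ T ⊓ centralizer ((⨆ b, N b : Subgroup G) : Set G), x * g * x⁻¹ * g⁻¹ ∈ l c) :
    T ⊓ centralizer ((⨆ b, N b : Subgroup G) : Set G) ≤ centralizer (X : Set G) := by
  classical
  set Q : Subgroup G := T ⊓ centralizer ((⨆ b, N b : Subgroup G) : Set G) with hQ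
  obtain ⟨m, mE, mN, mb, mQ, ml⟩ := h.lam c hc
  obtain ⟨A, hA, hAc, hAb⟩ := h.pure c
  have hAO : A ≤ O := hA.2.1
  have hAT : A ≤ T := hAO.trans h.OT
  have hAR : A ≤ R := hAT.trans h.syl.1
  have hcN : N c ≤ E c := h.NE c hc
  have EO : E c ≤ O := h.EO c hc
  have eE := h.eab c hc
  have ecom : ∀ x ∈ E c, ∀ y ∈ E c, x * y = y * x := fun x hx y hy =>
    mem_centralizer_iff.1 (comA eE hy) x hx
  have Acom : ∀ a ∈ A, ∀ b ∈ A, a * b = b * a := fun a ha b hb =>
    mem_centralizer_iff.1 (comA hA.1 hb) a ha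
  -- `A` is full on `N c`
  have hFull : Full A (N c) (l c) := by
    refine (h.off c A hAT hA.1 ?_).resolve_left hAc
    exact thom hA (eab_mono eE hcN) (h.NO c)
  set A0 : Subgroup G := A ⊓ centralizer (N c : Set G) with hA0
  have A0A : A0 ≤ A := inf_le_left
  have mA0 : ∀ {a : G}, a ∈ A0 ↔ a ∈ A ∧ ∀ n ∈ N c, n * a = a * n := by
    intro a
    rw [hA0, mem_inf, mem_centralizer_iff]
    exact Iff.rfl
  have A0Q : A0 ≤ Q := by
    refine le_inf (A0A.trans hAT) ?_
    have h1 : (⨆ b, N b) ≤ centralizer (A0 : Set G) := by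
      refine iSup_le fun b => ?_
      by_cases hb : b = c
      · subst hb
        exact NoFF.Basic.comm_symm inf_le_right
      · exact NoFF.Basic.comm_symm (A0A.trans (hAb b hb))
    exact NoFF.Basic.comm_symm h1
  -- `C_(N c)(A) ≤ l c`
  have cNA : N c ⊓ centralizer (A : Set G) ≤ l c := by
    intro v hv
    by_contra hvl
    obtain ⟨z, hz, hz1⟩ : ∃ z ∈ l c, z ≠ 1 := by
      by_contra hcon
      push Not at hcon
      exact h.lne c (by rw [eq_bot_iff]; intro x hx; exact mem_bot.2 (hcon x hx))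
    obtain ⟨a, ha, e1⟩ := hFull.onA v hv.1 hvl z hz
    apply hz1
    rw [← e1, mem_centralizer_iff.1 hv.2 a ha, mul_inv_cancel_right, mul_inv_cancel]
  have hqc := quot_card A0A
  set q : ℕ := Nat.card (A ⧸ A0.subgroupOf A) with hq
  have hql : q = Nat.card (l c) := by
    have h1 := hFull.cardA
    rw [← hA0, hqc, mul_comm] at h1
    exact Nat.eq_of_mul_eq_mul_left Nat.card_pos h1
  -- `D = A₀ N c ∈ AA(O)`
  have hD : A0 ⊔ N c ∈ AA O := by
    refine swap_mem hA (eab_mono eE hcN) (h.NO c) ?_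
    calc Nat.card A * Nat.card ↥(N c ⊓ centralizer (A : Set G)) ≤ Nat.card A * Nat.card (l c) :=
          Nat.mul_le_mul_left _ (Subgroup.card_le_of_le cNA)
      _ = Nat.card (N c) * Nat.card A0 := by rw [hqc, hql, h.cardN c]; ring
  -- the element `m`
  have mQ' : ∀ g ∈ Q, m⁻¹ * g * m ∈ Q := fun g hg => by
    have h1 := (mem_normalizer_iff.1 (inv_mem mQ) g).1 hg
    rwa [inv_inv] at h1
  have L'N : cj m (l c) ≤ N c := by
    have h1 := cj_mono m (h.lN c)
    rwa [cj_eq_of_mem_normalizer mN] at h1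
  have hAEn : ∀ a ∈ A, ∀ x ∈ E c, a * x * a⁻¹ ∈ E c := fun a ha x hx =>
    (mem_normalizer_iff.1 (h.RE c hc (hAR ha)) x).1 hx
  have hAQn : ∀ a ∈ A, ∀ g ∈ Q, a * g * a⁻¹ ∈ Q := by
    intro a ha g hg
    refine mem_inf.2 ⟨T.mul_mem (T.mul_mem (hAT ha) hg.1) (T.inv_mem (hAT ha)), ?_⟩
    have h1 : (⨆ b, N b) ≤ centralizer ({a * g * a⁻¹} : Set G) := by
      refine iSup_le fun b n hn => ?_
      rw [mem_centralizer_singleton_iff]
      have h2 : a⁻¹ * n * a ∈ N b := by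
        have h3 := (mem_normalizer_iff.1 (inv_mem (h.TN b (hAT ha))) n).1 hn
        rwa [inv_inv] at h3
      have h3 := mem_centralizer_iff.1 hg.2 _ (le_iSup N b h2)
      calc n * (a * g * a⁻¹) = a * (a⁻¹ * n * a * g) * a⁻¹ := by group
        _ = a * (g * (a⁻¹ * n * a)) * a⁻¹ := by rw [h3]
        _ = a * g * a⁻¹ * n := by group
    rw [mem_centralizer_iff]
    exact fun x hx => mem_centralizer_singleton_iff.1 (h1 hx)
  have hQN : ∀ g ∈ Q, ∀ n ∈ N c, n * g = g * n := fun g hg n hn =>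
    mem_centralizer_iff.1 hg.2 n (le_iSup N c hn)
  -- the elements `v` of `X^m`
  have main : ∀ v ∈ E c, (∀ g ∈ Q, v * g * v⁻¹ * g⁻¹ ∈ cj m (l c)) → ∀ g ∈ Q, v * g * v⁻¹ * g⁻¹ = 1 := by
    intro v hv hvQ
    -- `Y = ⟨v ^ A⟩`
    set Y : Subgroup G := ⨆ a : A, zpowers ((a : G) * v * (a : G)⁻¹) with hY
    have vaY : ∀ a ∈ A, a * v * a⁻¹ ∈ Y := fun a ha =>
      (le_iSup (fun a : A => zpowers ((a : G) * v * (a : G)⁻¹)) ⟨a, ha⟩) (mem_zpowers _)
    have vY : v ∈ Y := by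
      have h1 := vaY 1 (one_mem _)
      simpa using h1
    have YE : Y ≤ E c := iSup_le fun a => zpowers_le.2 (hAEn a a.2 v hv)
    have Yle : ∀ U : Subgroup G, (∀ a ∈ A, a * v * a⁻¹ ∈ U) → Y ≤ U := fun U hU =>
      iSup_le fun a => zpowers_le.2 (hU a a.2)
    -- elements of `A` centralising `v` centralise `Y`
    have centY : ∀ a ∈ A, v * a = a * v → Y ≤ centralizer ({a} : Set G) := by
      intro a ha hva
      refine Yle _ fun b hb => ?_
      rw [mem_centralizer_singleton_iff]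
      have h1 : b⁻¹ * a = a * b⁻¹ := Acom _ (inv_mem hb) _ ha
      calc b * v * b⁻¹ * a = b * v * (b⁻¹ * a) := by group
        _ = b * (v * a) * b⁻¹ := by rw [h1]; group
        _ = (b * a) * v * b⁻¹ := by rw [hva]; group
        _ = a * (b * v * b⁻¹) := by rw [Acom b hb a ha]; group
    -- `[v, g] ^ a`
    have step1 : ∀ a ∈ A0, v * a = a * v := by
      intro a0 ha0
      by_contra hne
      set w : G := v * a0 * v⁻¹ * a0⁻¹ with hw
      have hw1 : w ≠ 1 := by
        intro h1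
        apply hne
        have h2 : v * a0 = w * a0 * v := by rw [hw]; group
        rw [h2, h1, one_mul]
      have hwL : w ∈ cj m (l c) := hvQ a0 (A0Q ha0)
      have hwN : w ∈ N c := L'N hwL
      have hwl : w ∉ l c := fun h1 => hw1 (by
        have h2 : w ∈ cj m (l c) ⊓ l c := ⟨hwL, h1⟩
        rw [ml] at h2
        exact mem_bot.1 h2)
      -- `a₀` moves `v ^ a` by `w ^ a`
      have hva : ∀ a ∈ A, (a * v * a⁻¹) * a0 * (a * v * a⁻¹)⁻¹ * a0⁻¹ = a * w * a⁻¹ := by
        intro a ha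
        have h1 : a⁻¹ * a0 * a = a0 := by rw [Acom _ (inv_mem ha) _ (A0A ha0)]; group
        calc (a * v * a⁻¹) * a0 * (a * v * a⁻¹)⁻¹ * a0⁻¹
            = a * (v * (a⁻¹ * a0 * a) * v⁻¹ * (a⁻¹ * a0 * a)⁻¹) * a⁻¹ := by group
          _ = a * w * a⁻¹ := by rw [h1]
      -- `a` centralises `w` iff `a ∈ A₀`
      have haw : ∀ a ∈ A, a * w * a⁻¹ = w → a ∈ A0 := by
        intro a ha h1
        by_contra h2
        have h3 : a ∉ centralizer (N c : Set G) := fun h3 => h2 (mem_inf.2 ⟨ha, h3⟩)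
        -- `a` moves `N c`, so its fixed points lie in `l c`
        have hcard : ∀ z ∈ l c, ∃ v ∈ N c, a * v * a⁻¹ * v⁻¹ = z := hFull.onN a ha h3
        -- count : the map `N c / l c → l c`
        have h4 : Nat.card (N c) = Nat.card (N c ⧸ (l c).subgroupOf (N c)) * Nat.card (l c) := quot_card (h.lN c)
        rw [h.cardN c] at h4
        have h5 : Nat.card (l c) = Nat.card (N c ⧸ (l c).subgroupOf (N c)) :=
          Nat.eq_of_mul_eq_mul_right Nat.card_pos h4
        -- the fixed points of `a`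
        set M : Subgroup G := N c ⊓ centralizer ({a} : Set G) with hM
        have lM : l c ≤ M := by
          refine le_inf (h.lN c) fun x hx => ?_
          rw [mem_centralizer_singleton_iff]
          exact (mem_centralizer_iff.1 (hFull.cent ha) x hx)
        have h6 := quot_card (inf_le_left : M ≤ N c)
        -- surjection from `N c / M` onto `l c`
        have h7 : Nat.card (l c) ≤ Nat.card (N c ⧸ M.subgroupOf (N c)) := by
          choose! s hs hs' using hcard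
          let φ : l c → N c ⧸ M.subgroupOf (N c) := fun z => ((⟨s z, hs z z.2⟩ : N c) : _)
          refine Nat.card_le_card_of_injective φ ?_
          intro z z' hzz
          have h8 : (s z)⁻¹ * s z' ∈ M := by
            have h9 := QuotientGroup.eq.1 hzz
            rw [mem_subgroupOf] at h9
            exact h9
          have h9 : (s z)⁻¹ * s z' * a = a * ((s z)⁻¹ * s z') := mem_centralizer_singleton_iff.1 h8.2
          have e1 := hs' z z.2
          have e2 := hs' z' z'.2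
          apply Subtype.ext
          rw [← e1, ← e2]
          have h10 : s z' = s z * ((s z)⁻¹ * s z') := by group
          have h11 : a * ((s z)⁻¹ * s z') * a⁻¹ = (s z)⁻¹ * s z' := by rw [← h9]; group
          rw [h10]
          calc a * s z * a⁻¹ * (s z)⁻¹ = (a * s z * a⁻¹) * ((s z)⁻¹ * s z') * ((s z)⁻¹ * s z')⁻¹ * (s z)⁻¹ := by group
            _ = (a * s z * a⁻¹) * (a * ((s z)⁻¹ * s z') * a⁻¹) * ((s z)⁻¹ * s z')⁻¹ * (s z)⁻¹ := by rw [h11]
            _ = a * (s z * ((s z)⁻¹ * s z')) * a⁻¹ * (s z * ((s z)⁻¹ * s z'))⁻¹ := by group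
        have h8 : Nat.card M ≤ Nat.card (l c) := by
          have h9 : Nat.card (l c) * Nat.card M ≤ Nat.card (N c) := by
            rw [h6]
            exact Nat.mul_le_mul_right _ h7
          rw [h.cardN c] at h9
          exact Nat.le_of_mul_le_mul_left h9 Nat.card_pos
        have h9 : l c = M := Subgroup.eq_of_le_of_card_ge lM h8
        apply hwl
        rw [h9]
        refine mem_inf.2 ⟨hwN, ?_⟩
        rw [mem_centralizer_singleton_iff]
        calc w * a = (a * w * a⁻¹) * a := by rw [h1]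
          _ = a * w := by group
      have hmove : ∀ a ∈ A, ∀ b ∈ A, ((a * v * a⁻¹)⁻¹ * (b * v * b⁻¹)) ∈ centralizer (A0 : Set G) → a⁻¹ * b ∈ A0 := by
        intro a ha b hb hab
        refine haw _ (mul_mem (inv_mem ha) hb) ?_
        have h1 := mem_centralizer_iff.1 hab a0 ha0
        have h2 := hva a ha
        have h3 := hva b hb
        -- `x⁻¹ y` commutes with `a₀`, so `[x, a₀] = [y, a₀]`
        have h4 : (a * v * a⁻¹) * a0 * (a * v * a⁻¹)⁻¹ * a0⁻¹ = (b * v * b⁻¹) * a0 * (b * v * b⁻¹)⁻¹ * a0⁻¹ := by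
          set x := a * v * a⁻¹
          set y := b * v * b⁻¹
          have h5 : a0 = (x⁻¹ * y) * a0 * (x⁻¹ * y)⁻¹ := by rw [← h1]; group
          calc x * a0 * x⁻¹ * a0⁻¹ = x * ((x⁻¹ * y) * a0 * (x⁻¹ * y)⁻¹) * x⁻¹ * a0⁻¹ := by rw [← h5]
            _ = y * a0 * y⁻¹ * a0⁻¹ := by group
        rw [h2, h3] at h4
        calc a⁻¹ * b * w * (a⁻¹ * b)⁻¹ = a⁻¹ * (b * w * b⁻¹) * a := by group
          _ = a⁻¹ * (a * w * a⁻¹) * a := by rw [h4]
          _ = w := by group
      -- the count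
      set M : Subgroup G := Y ⊓ centralizer (A0 : Set G) with hM
      have c1 : q < Nat.card (Y ⧸ M.subgroupOf Y) := by
        refine quot_lt (fun a => a * v * a⁻¹) vaY (fun a ha b hb hab => hmove a ha b hb hab.2) ?_
        intro a ha h1
        have h2 := mem_centralizer_iff.1 h1.2 a0 ha0
        have h3 := hva a ha
        have h4 : (a * v * a⁻¹) * a0 * (a * v * a⁻¹)⁻¹ * a0⁻¹ = 1 := by rw [← h2]; group
        rw [h3] at h4
        apply hw1
        calc w = a⁻¹ * (a * w * a⁻¹) * a := by group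
          _ = 1 := by rw [h4]; group
      have c2 := quot_card (inf_le_left : M ≤ Y)
      -- Thompson for `D = A₀ N c`
      have c3 := thom hD (eab_mono eE YE) (YE.trans EO)
      have hNY : N c ≤ centralizer (Y : Set G) := fun n hn => mem_centralizer_iff.2 fun y hy =>
        ecom y (YE hy) n (hcN hn)
      set K : Subgroup G := (A0 ⊔ N c) ⊓ centralizer (Y : Set G) with hK
      have cm : A0 ≤ centralizer (N c : Set G) := inf_le_right
      have hdec : ∀ d ∈ A0 ⊔ N c, ∃ a ∈ A0, ∃ n ∈ N c, d = a * n := by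
        intro d hd
        have h1 : N c ≤ normalizer (A0 : Set G) :=
          (NoFF.Basic.comm_symm cm).trans (centralizer_le_normalizer _)
        exact dec h1 hd
      have c4 : Nat.card ((A0 ⊔ N c : Subgroup G) ⧸ K.subgroupOf (A0 ⊔ N c)) ≤ Nat.card (l c) := by
        have h1 : Nat.card (cj m (l c)) = Nat.card (l c) := Cfsg.Agent.ZN.ChoiceBase.card_cj m (l c)
        rw [← h1]
        refine quot_le (fun d => v * d * v⁻¹ * d⁻¹) ?_ ?_
        · intro d hd
          obtain ⟨a, ha, n, hn, rfl⟩ := hdec d hd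
          have h2 : v * n * v⁻¹ = n := by rw [ecom v hv n (hcN hn), mul_inv_cancel_right]
          have h3 : v * (a * n) * v⁻¹ * (a * n)⁻¹ = v * a * v⁻¹ * a⁻¹ := by
            calc v * (a * n) * v⁻¹ * (a * n)⁻¹ = v * a * v⁻¹ * (v * n * v⁻¹) * n⁻¹ * a⁻¹ := by group
              _ = v * a * v⁻¹ * a⁻¹ := by rw [h2]; group
          rw [h3]
          exact hvQ a (A0Q ha)
        · intro d hd d' hd' hdd
          have hmem := mul_mem (inv_mem hd) hd'
          refine mem_inf.2 ⟨hmem, ?_⟩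
          -- `d⁻¹ d'` commutes with `v`
          have h2 : v⁻¹ * (d⁻¹ * d') = (d⁻¹ * d') * v⁻¹ := by
            have hDc : d * d' = d' * d := mem_centralizer_iff.1 (comA hD.1 hd') d hd
            have h3 : v * d * v⁻¹ * d⁻¹ = v * d' * v⁻¹ * d'⁻¹ := hdd
            have h4 : d * v⁻¹ * d⁻¹ = d' * v⁻¹ * d'⁻¹ := by
              calc d * v⁻¹ * d⁻¹ = v⁻¹ * (v * d * v⁻¹ * d⁻¹) := by group
                _ = v⁻¹ * (v * d' * v⁻¹ * d'⁻¹) := by rw [h3]
                _ = d' * v⁻¹ * d'⁻¹ := by group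
            have h5 : d⁻¹ * d' = d' * d⁻¹ := by
              calc d⁻¹ * d' = d⁻¹ * (d' * d) * d⁻¹ := by group
                _ = d' * d⁻¹ := by rw [← hDc]; group
            calc v⁻¹ * (d⁻¹ * d') = d⁻¹ * (d * v⁻¹ * d⁻¹) * d' := by group
              _ = d⁻¹ * (d' * v⁻¹ * d'⁻¹) * d' := by rw [h4]
              _ = (d⁻¹ * d') * v⁻¹ := by group
          have h3 : v * (d⁻¹ * d') = (d⁻¹ * d') * v := by
            calc v * (d⁻¹ * d') = v * ((d⁻¹ * d') * v⁻¹) * v := by group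
              _ = v * (v⁻¹ * (d⁻¹ * d')) * v := by rw [h2]
              _ = (d⁻¹ * d') * v := by group
          obtain ⟨a, ha, n, hn, e1⟩ := hdec _ hmem
          rw [e1] at h3 ⊢
          have h4 : v * n = n * v := ecom v hv n (hcN hn)
          have h5 : v * a = a * v := by
            have h6 : v * a * n = a * v * n := by
              calc v * a * n = v * (a * n) := by group
                _ = a * (n * v) := by rw [h3]; group
                _ = a * v * n := by rw [← h4]; group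
            exact mul_right_cancel h6
          have h6 := centY a (A0A ha) h5
          refine mul_mem ?_ (hNY hn)
          rw [mem_centralizer_iff]
          exact fun y hy => mem_centralizer_singleton_iff.1 (h6 hy)
      have c5 := quot_card (inf_le_left : K ≤ A0 ⊔ N c)
      have c6 : Nat.card ↥(Y ⊓ centralizer ((A0 ⊔ N c : Subgroup G) : Set G)) ≤ Nat.card M :=
        Subgroup.card_le_of_le (inf_le_inf_left _ (centralizer_le (le_sup_left : A0 ≤ A0 ⊔ N c)))
      -- combine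
      have pK : 0 < Nat.card K := Nat.card_pos
      have pM : 0 < Nat.card M := Nat.card_pos
      have c7 : Nat.card Y * Nat.card K ≤ Nat.card (l c) * Nat.card K * Nat.card M := by
        calc Nat.card Y * Nat.card K ≤ Nat.card ↥(A0 ⊔ N c) *
              Nat.card ↥(Y ⊓ centralizer ((A0 ⊔ N c : Subgroup G) : Set G)) := c3
          _ ≤ (Nat.card (l c) * Nat.card K) * Nat.card M := by
            refine Nat.mul_le_mul ?_ c6
            rw [c5]
            exact Nat.mul_le_mul_right _ c4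
      have c8 : Nat.card Y ≤ Nat.card (l c) * Nat.card M := by
        apply Nat.le_of_mul_le_mul_right _ pK
        calc Nat.card Y * Nat.card K ≤ _ := c7
          _ = Nat.card (l c) * Nat.card M * Nat.card K := by ring
      rw [c2, ← hql] at c8
      exact absurd (Nat.le_of_mul_le_mul_right c8 pM) (not_le.2 c1)
    -- second half
    have A0Y : A0 ≤ centralizer (Y : Set G) := by
      intro a ha
      rw [mem_centralizer_iff]
      exact fun y hy => mem_centralizer_singleton_iff.1 (centY a (A0A ha) (step1 a ha) hy)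
    have Y2E : Y ⊔ N c ≤ E c := sup_le YE hcN
    have d1 := thom hA (eab_mono eE Y2E) (Y2E.trans EO)
    have d2 : A0 ≤ A ⊓ centralizer ((Y ⊔ N c : Subgroup G) : Set G) := by
      refine le_inf A0A (NoFF.Basic.comm_symm (sup_le (NoFF.Basic.comm_symm A0Y) (NoFF.Basic.comm_symm inf_le_right)))
    set C : Subgroup G := (Y ⊔ N c) ⊓ centralizer (A : Set G) with hC
    have p0 : 0 < Nat.card A0 := Nat.card_pos
    have d3 : Nat.card ↥(Y ⊔ N c) ≤ Nat.card (l c) * Nat.card C := by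
      apply Nat.le_of_mul_le_mul_right _ p0
      calc Nat.card ↥(Y ⊔ N c) * Nat.card A0
          ≤ Nat.card ↥(Y ⊔ N c) * Nat.card ↥(A ⊓ centralizer ((Y ⊔ N c : Subgroup G) : Set G)) :=
            Nat.mul_le_mul_left _ (Subgroup.card_le_of_le d2)
        _ ≤ Nat.card A * Nat.card C := d1
        _ = Nat.card (l c) * Nat.card C * Nat.card A0 := by rw [hqc, hql]; ring
    have d4 : Y ⊔ N c ≤ N c ⊔ C := by
      have hle : N c ⊔ C ≤ Y ⊔ N c := sup_le le_sup_right inf_le_left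
      have hcc : N c ≤ centralizer (C : Set G) := fun n hn => mem_centralizer_iff.2 fun y hy =>
        ecom y (Y2E hy.1) n (hcN hn)
      have e1 := Cfsg.Agent.PLocal.ElemAbSup.card_sup_mul_card_inf (A := C) (B := N c) hcc
      have e2 : C ⊓ N c ≤ l c := (le_inf inf_le_right (inf_le_left.trans inf_le_right)).trans cNA
      have e3 := Subgroup.card_le_of_le e2
      refine (Subgroup.eq_of_le_of_card_ge hle ?_).ge
      have pl : 0 < Nat.card (l c) := Nat.card_pos
      apply Nat.le_of_mul_le_mul_right _ pl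
      calc Nat.card ↥(Y ⊔ N c) * Nat.card (l c) ≤ Nat.card (l c) * Nat.card C * Nat.card (l c) :=
            Nat.mul_le_mul_right _ d3
        _ = Nat.card C * Nat.card (N c) := by rw [h.cardN c]; ring
        _ = Nat.card ↥(C ⊔ N c) * Nat.card ↥(C ⊓ N c) := e1.symm
        _ ≤ Nat.card ↥(N c ⊔ C) * Nat.card (l c) := by rw [sup_comm]; exact Nat.mul_le_mul_left _ e3
    -- `[v, A] ≤ l c`
    have d5 : ∀ a ∈ A, a * v * a⁻¹ * v⁻¹ ∈ l c := by
      intro a ha
      have h1 : v ∈ N c ⊔ C := d4 (mem_sup_left vY)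
      have hCc : C ≤ centralizer (N c : Set G) := fun y hy => mem_centralizer_iff.2 fun n hn =>
        ecom n (hcN hn) y (Y2E hy.1)
      obtain ⟨n, hn, y, hy, e0⟩ := dec (F := N c) (N := C) (hCc.trans (centralizer_le_normalizer _)) h1
      have h2 : a * y * a⁻¹ = y := by rw [mem_centralizer_iff.1 hy.2 a ha, mul_inv_cancel_right]
      have h3 : a * (n * y) * a⁻¹ * (n * y)⁻¹ = a * n * a⁻¹ * n⁻¹ := by
        calc a * (n * y) * a⁻¹ * (n * y)⁻¹ = (a * n * a⁻¹) * (a * y * a⁻¹) * y⁻¹ * n⁻¹ := by group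
          _ = a * n * a⁻¹ * n⁻¹ := by rw [h2]; group
      rw [e0, h3]
      exact hFull.inl a ha n hn
    intro g hg
    set w : G := v * g * v⁻¹ * g⁻¹ with hw
    have hwL : w ∈ cj m (l c) := hvQ g hg
    have hwN : w ∈ N c := L'N hwL
    have hwA : w ∈ centralizer (A : Set G) := by
      rw [mem_centralizer_iff]
      intro a ha
      -- `a w a⁻¹ = [v, a g a⁻¹]`
      have hg' := hAQn a ha g hg
      set g' : G := a * g * a⁻¹ with hg'e
      set z : G := a * v * a⁻¹ * v⁻¹ with hz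
      have hzl : z ∈ l c := d5 a ha
      have hzN : z ∈ N c := h.lN c hzl
      have e1 : a * w * a⁻¹ = z * (v * g' * v⁻¹ * g'⁻¹) * z⁻¹ := by
        have e2 : g' * z⁻¹ * g'⁻¹ = z⁻¹ := by
          rw [← hQN g' hg' z⁻¹ (inv_mem hzN), mul_inv_cancel_right]
        calc a * w * a⁻¹ = (a * v * a⁻¹) * g' * (a * v * a⁻¹)⁻¹ * g'⁻¹ := by rw [hw, hg'e]; group
          _ = (z * v) * g' * (z * v)⁻¹ * g'⁻¹ := by rw [hz]; group
          _ = z * (v * g' * v⁻¹ * g'⁻¹) * (g' * z⁻¹ * g'⁻¹) := by group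
          _ = z * (v * g' * v⁻¹ * g'⁻¹) * z⁻¹ := by rw [e2]
      have e3 : v * g' * v⁻¹ * g'⁻¹ ∈ cj m (l c) := hvQ g' hg'
      have e4 : z * (v * g' * v⁻¹ * g'⁻¹) * z⁻¹ = v * g' * v⁻¹ * g'⁻¹ := by
        rw [ecom z (hcN hzN) _ (hcN (L'N e3)), mul_inv_cancel_right]
      rw [e4] at e1
      have e5 : a * w * a⁻¹ * w⁻¹ ∈ cj m (l c) ⊓ l c := by
        refine mem_inf.2 ⟨?_, hFull.inl a ha w hwN⟩
        rw [e1]
        exact mul_mem e3 (inv_mem hwL)
      rw [ml] at e5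
      have e6 : a * w * a⁻¹ = w := mul_inv_eq_one.1 (mem_bot.1 e5)
      calc a * w = (a * w * a⁻¹) * a := by group
        _ = w * a := by rw [e6]
    have h1 : w ∈ cj m (l c) ⊓ l c := ⟨hwL, cNA ⟨hwN, hwA⟩⟩
    rw [ml] at h1
    exact mem_bot.1 h1
  -- conclusion
  intro g hg
  rw [mem_centralizer_iff]
  intro x hx
  have hv : m * x * m⁻¹ ∈ E c := (mem_normalizer_iff.1 mE x).1 (hX hx)
  have h1 : ∀ g ∈ Q, (m * x * m⁻¹) * g * (m * x * m⁻¹)⁻¹ * g⁻¹ ∈ cj m (l c) := by
    intro g hg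
    rw [mem_cj]
    have h2 := hl x hx _ (mQ' g hg)
    have e1 : m⁻¹ * ((m * x * m⁻¹) * g * (m * x * m⁻¹)⁻¹ * g⁻¹) * m =
        x * (m⁻¹ * g * m) * x⁻¹ * (m⁻¹ * g * m)⁻¹ := by group
    rw [e1]
    exact h2
  have h2 := main _ hv h1 (m * g * m⁻¹) ((mem_normalizer_iff.1 mQ g).1 hg)
  have e1 : (m * x * m⁻¹) * (m * g * m⁻¹) * (m * x * m⁻¹)⁻¹ * (m * g * m⁻¹)⁻¹ = m * (x * g * x⁻¹ * g⁻¹) * m⁻¹ := by
    group
  rw [e1] at h2
  have h3 : x * g * x⁻¹ * g⁻¹ = 1 := by
    calc x * g * x⁻¹ * g⁻¹ = m⁻¹ * (m * (x * g * x⁻¹ * g⁻¹) * m⁻¹) * m := by group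
      _ = 1 := by rw [h2]; group
  calc x * g = (x * g * x⁻¹ * g⁻¹) * (g * x) := by group
    _ = g * x := by rw [h3, one_mul]

end Fr

end Cfsg.Agent.Omega.NOThreeL.RWide.UniT

end
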