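import Cfsg.Agent.Mrg.Omega.NOThreeL.RWide.UniT.Exc
import Cfsg.Agent.Lib.NormalAbelian


/-!
# UNI_T, the passive case, part (A2) (helper528 #27296)

`Fr T O R N l E j`, `U = zl T R`, all members of `AA(O)` lie in `O₂(R)` ⟹ `U ≤ Z_J = ∏ l b`.

* `inl_of_cent` : `v` commutes with `C_A(N)` ⟹ `[v, A] ≤ l`;
* `move_or` : `C_A(N c)` moves `n^m` or `[n, Q]` has no component at `c`;
* **`Fr.atwo`**.
-/

set_option autoImplicit false
set_option linter.unusedSectionVars false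

namespace Cfsg.Agent.Omega.NOThreeL.RWide.UniT

open Subgroup Cfsg Cfsg.Agent.Omega.MinPar
open Cfsg.Agent.ZN (zc o2 zl)
open Cfsg.Agent.ZN.ChoiceBase (cj cj_mono cj_inf cj_centralizer cj_eq_of_mem_normalizer mem_cj mem_normalizer_iff_cj
  cj_cj_inv cj_inv_cj cj_cj cj_one isPGroup_cj card_cj AA mem_normalizer_of_cj_le cj_le_iff isElementaryAbelian_cj mem_zc)
open Cfsg.Agent.MinSimple.MinParabolic (IsMinPar)
open Cfsg.Agent.Omega.SQ1.Bau (mem_sup_comm)

universe u v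

variable {G : Type u} [Group G] {ι : Type v}

namespace ATwo

/-- a nontrivial section `B / A` has a nontrivial fixed point under a 2-group -/
theorem exists_fixed_mod [Finite G] {T B A : Subgroup G} (hT : IsPGroup 2 T) (hBT : B ≤ T)
    (hB : T ≤ normalizer (B : Set G)) (hA : T ≤ normalizer (A : Set G)) (hne : ¬ B ≤ A) :
    ∃ m ∈ B, m ∉ A ∧ ∀ t ∈ T, t * m * t⁻¹ * m⁻¹ ∈ A := by
  have : Fact (Nat.Prime 2) := ⟨Nat.prime_two⟩
  have hnA : (A.subgroupOf T).Normal := normal_subgroupOf_of_le_normalizer hA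
  have hnB : (B.subgroupOf T).Normal := normal_subgroupOf_of_le_normalizer hB
  have hp : IsPGroup 2 (T ⧸ A.subgroupOf T) := hT.to_quotient _
  have : Group.IsNilpotent (T ⧸ A.subgroupOf T) := hp.isNilpotent
  let N : Subgroup (T ⧸ A.subgroupOf T) := (B.subgroupOf T).map (QuotientGroup.mk' (A.subgroupOf T))
  have hN : N.Normal := hnB.map _ (QuotientGroup.mk'_surjective _)
  have hN1 : N ≠ ⊥ := by
    intro h
    apply hne
    intro x hx
    have h1 : QuotientGroup.mk' (A.subgroupOf T) ⟨x, hBT hx⟩ ∈ N := ⟨⟨x, hBT hx⟩, hx, rfl⟩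
    rw [h, mem_bot] at h1
    exact (QuotientGroup.eq_one_iff (⟨x, hBT hx⟩ : T)).1 h1
  have h2 := Lib.NormalAbelian.normal_inf_center_ne_bot N hN1
  obtain ⟨⟨y, hy⟩, hy1⟩ := Subgroup.ne_bot_iff_exists_ne_one.1 h2
  obtain ⟨⟨m, hm, rfl⟩, hyc⟩ := mem_inf.1 hy
  refine ⟨m, hm, fun h => hy1 ?_, fun t ht => ?_⟩
  · apply Subtype.ext
    exact (QuotientGroup.eq_one_iff m).2 h
  · have h3 := mem_center_iff.1 hyc (QuotientGroup.mk' (A.subgroupOf T) ⟨t, ht⟩)
    rw [← map_mul, ← map_mul] at h3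
    have h4 : QuotientGroup.mk' (A.subgroupOf T) (⟨t, ht⟩ * m * (⟨t, ht⟩ : T)⁻¹ * m⁻¹) = 1 := by
      rw [mul_assoc, map_mul, h3, ← map_mul]
      rw [show m * ⟨t, ht⟩ * ((⟨t, ht⟩ : T)⁻¹ * m⁻¹) = 1 by group, map_one]
    have h5 := (QuotientGroup.eq_one_iff ((⟨t, ht⟩ : T) * m * (⟨t, ht⟩ : T)⁻¹ * m⁻¹)).1 h4
    exact h5

/-- `v` commutes with `C_A(N)` ⟹ `[v, A] ≤ l` -/
theorem inl_of_cent [Finite G] {O A N l X : Subgroup G} (hA : A ∈ AA O) (hF : Full A N l) (hlN : l ≤ N) (hl : l ≠ ⊥)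
    (cN : Nat.card N = Nat.card l * Nat.card l) (hX : IsElementaryAbelian 2 X) (XO : X ≤ O) (NX : N ≤ X)
    {v : G} (hv : v ∈ X) (hc : ∀ a ∈ A ⊓ centralizer (N : Set G), v * a = a * v) :
    ∀ a ∈ A, a * v * a⁻¹ * v⁻¹ ∈ l := by
  set A0 := A ⊓ centralizer (N : Set G) with hA0
  set W : Subgroup G := X ⊓ centralizer (A0 : Set G) with hW
  have hWe : IsElementaryAbelian 2 W := eab_mono hX inf_le_left
  have hNW : N ≤ W := le_inf NX fun n hn => mem_c.2 fun a ha => (mem_c.1 (mem_inf.1 ha).2 n hn).symm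
  have hvW : v ∈ W := mem_inf.2 ⟨hv, mem_c.2 hc⟩
  have d1 := thom hA hWe (inf_le_left.trans XO)
  have d2 : A0 ≤ A ⊓ centralizer (W : Set G) :=
    le_inf inf_le_left fun a ha => mem_c.2 fun w hw => (mem_c.1 (mem_inf.1 hw).2 a ha).symm
  set C : Subgroup G := W ⊓ centralizer (A : Set G) with hC
  have p0 : 0 < Nat.card A0 := Nat.card_pos
  have d3 : Nat.card W ≤ Nat.card l * Nat.card C := by
    apply Nat.le_of_mul_le_mul_right _ p0
    calc Nat.card W * Nat.card A0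
        ≤ Nat.card W * Nat.card ↥(A ⊓ centralizer (W : Set G)) :=
          Nat.mul_le_mul_left _ (Subgroup.card_le_of_le d2)
      _ ≤ Nat.card A * Nat.card C := d1
      _ = Nat.card l * Nat.card C * Nat.card A0 := by rw [hF.cardA]; ring
  have hcc : N ≤ centralizer (C : Set G) := fun n hn => mem_c.2 fun y hy => eab_comm hWe (hNW hn) hy.1
  have d4 : W ≤ N ⊔ C := by
    have hle : N ⊔ C ≤ W := sup_le hNW inf_le_left
    have e1 := Cfsg.Agent.PLocal.ElemAbSup.card_sup_mul_card_inf (A := C) (B := N) hcc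
    have e2 : C ⊓ N ≤ l := by
      rw [← hF.inf_eq hlN hl]
      exact le_inf inf_le_right (inf_le_left.trans inf_le_right)
    have e3 := Subgroup.card_le_of_le e2
    refine (Subgroup.eq_of_le_of_card_ge hle ?_).ge
    have pl : 0 < Nat.card l := Nat.card_pos
    apply Nat.le_of_mul_le_mul_right _ pl
    calc Nat.card W * Nat.card l ≤ Nat.card l * Nat.card C * Nat.card l := Nat.mul_le_mul_right _ d3
      _ = Nat.card C * Nat.card N := by rw [cN]; ring
      _ = Nat.card ↥(C ⊔ N) * Nat.card ↥(C ⊓ N) := e1.symm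
      _ ≤ Nat.card ↥(N ⊔ C) * Nat.card l := by rw [sup_comm]; exact Nat.mul_le_mul_left _ e3
  intro a ha
  obtain ⟨n, hn, y, hy, rfl⟩ := mem_sup_comm (fun n hn y hy => mem_c.1 (hcc hn) y hy) (d4 hvW)
  have h2 : a * y * a⁻¹ = y := by rw [← mem_c.1 hy.2 a ha, mul_inv_cancel_right]
  have h3 : a * (n * y) * a⁻¹ * (n * y)⁻¹ = a * n * a⁻¹ * n⁻¹ := by
    calc a * (n * y) * a⁻¹ * (n * y)⁻¹ = (a * n * a⁻¹) * (a * y * a⁻¹) * y⁻¹ * n⁻¹ := by group
      _ = a * n * a⁻¹ * n⁻¹ := by rw [h2]; group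
  rw [h3]
  exact hF.inl a ha n hn

/-- the other blocks -/
theorem sup_split (l : ι → Subgroup G) (c : ι) : (⨆ b, l b) = l c ⊔ ⨆ b : {b // b ≠ c}, l b := by
  apply le_antisymm
  · refine iSup_le fun b => ?_
    by_cases hb : b = c
    · subst hb; exact le_sup_left
    · exact (le_iSup (fun b : {b // b ≠ c} => l b) ⟨b, hb⟩).trans le_sup_right
  · exact sup_le (le_iSup l c) (iSup_le fun b => le_iSup l (b : ι))

end ATwo

namespace Fr

open ATwo

variable [Finite G] {T O R : Subgroup G} {N l E : ι → Subgroup G} {j : ι}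

/-- `C_A(N c)` moves `n^m` or `[n, Q]` has no component at `c` -/
theorem move_or (h : Fr T O R N l E j) {c a' : ι} (ha' : a' ≠ j) (cE : N c ≤ E a') {m : G}
    (mE : m ∈ normalizer (E a' : Set G)) (mN : m ∈ normalizer (N c : Set G))
    (mb : ∀ b, b ≠ c → m ∈ centralizer (N b : Set G))
    (mQ : m ∈ normalizer ((T ⊓ centralizer ((⨆ b, N b : Subgroup G) : Set G) : Subgroup G) : Set G))
    (ml : cj m (l c) ⊓ l c = ⊥) {A : Subgroup G} (hA : A ∈ AA O) (hF : Full A (N c) (l c))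
    (hAb : ∀ b, b ≠ c → A ≤ centralizer (N b : Set G)) {n : G} (hn : n ∈ E a')
    (hnQ : ∀ g ∈ T ⊓ centralizer ((⨆ b, N b : Subgroup G) : Set G), n * g * n⁻¹ * g⁻¹ ∈ ⨆ b, l b)
    (hfix : ∀ a ∈ A ⊓ centralizer (N c : Set G), (m * n * m⁻¹) * a = a * (m * n * m⁻¹)) :
    ∀ g ∈ T ⊓ centralizer ((⨆ b, N b : Subgroup G) : Set G), n * g * n⁻¹ * g⁻¹ ∈ ⨆ b : {b // b ≠ c}, l b := by
  set Q : Subgroup G := T ⊓ centralizer ((⨆ b, N b : Subgroup G) : Set G) with hQ
  set Z' : Subgroup G := ⨆ b : {b // b ≠ c}, l b with hZ'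
  have hAT : A ≤ T := hA.2.1.trans h.OT
  have hNA : ∀ b, N b ≤ ⨆ b, N b := le_iSup N
  -- `A`, `m` centralise `∏_{b ≠ c} N b`
  have cA : ∀ a ∈ A, ∀ z ∈ Z', a * z = z * a := by
    intro a ha z hz
    have h1 : Z' ≤ centralizer ({a} : Set G) := iSup_le fun b y hy => by
      rw [mem_centralizer_singleton_iff]
      exact (mem_c.1 (hAb b b.2 ha) y (h.lN b hy)).symm
    exact (mem_centralizer_singleton_iff.1 (h1 hz)).symm
  have cm : ∀ z ∈ Z', m * z = z * m := by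
    intro z hz
    have h1 : Z' ≤ centralizer ({m} : Set G) := iSup_le fun b y hy => by
      rw [mem_centralizer_singleton_iff]
      exact (mem_c.1 (mb b b.2) y (h.lN b hy)).symm
    exact (mem_centralizer_singleton_iff.1 (h1 hz)).symm
  have hne := h.lne c
  have hcA : N c ⊓ centralizer (A : Set G) = l c := hF.inf_eq (h.lN c) hne
  have hmlN : cj m (l c) ≤ N c := by
    have h1 := cj_mono m (h.lN c)
    rwa [cj_eq_of_mem_normalizer mN] at h1
  have hcomN : ∀ x ∈ N c, ∀ z ∈ Z', x * z = z * x := by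
    intro x hx z hz
    have h1 : Z' ≤ centralizer (N c : Set G) := iSup_le fun b => (h.lN b).trans (h.com b c)
    exact (mem_c.1 (h1 hz) x hx).symm
  -- `N c ∩ Z' = 1`
  have hdis : ∀ z, z ∈ N c → z ∈ Z' → z = 1 := by
    intro z hz hz'
    have h1 : z ∈ l c := by
      rw [← hcA]
      exact ⟨hz, mem_c.2 fun a ha => (cA a ha z hz').symm⟩
    have h2 : z ∈ cj m (l c) := by
      rw [mem_cj]
      have e : m⁻¹ * z * m = z := by rw [mul_assoc, ← cm z hz']; group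
      rwa [e]
    have h3 : z ∈ cj m (l c) ⊓ l c := ⟨h2, h1⟩
    rw [ml] at h3
    exact mem_bot.1 h3
  -- `[n^m, A] ≤ l c`
  have hnm : m * n * m⁻¹ ∈ E a' := (mem_normalizer_iff.1 mE n).1 hn
  have hinl := inl_of_cent hA hF (h.lN c) hne (h.cardN c) (h.eab a' ha') (h.EO a' ha') cE hnm hfix
  -- `[n^m, g]`, `g ∈ Q`
  have mQ' : ∀ g ∈ Q, m⁻¹ * g * m ∈ Q := fun g hg => by
    have h1 := (mem_normalizer_iff.1 (inv_mem mQ) g).1 hg
    rwa [inv_inv] at h1
  have hdec : ∀ g ∈ Q, ∃ w ∈ cj m (l c), ∃ z ∈ Z', (m * n * m⁻¹) * g * (m * n * m⁻¹)⁻¹ * g⁻¹ = w * z := by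
    intro g hg
    have h1 := hnQ _ (mQ' g hg)
    rw [sup_split l c] at h1
    obtain ⟨w, hw, z, hz, hwz⟩ := mem_sup_comm (fun x hx z hz => hcomN x (h.lN c hx) z hz) h1
    refine ⟨m * w * m⁻¹, conj_cj hw, z, hz, ?_⟩
    have e1 : (m * n * m⁻¹) * g * (m * n * m⁻¹)⁻¹ * g⁻¹ =
        m * (n * (m⁻¹ * g * m) * n⁻¹ * (m⁻¹ * g * m)⁻¹) * m⁻¹ := by group
    have e2 : m * (w * z) * m⁻¹ = m * w * m⁻¹ * z := by
      calc m * (w * z) * m⁻¹ = m * w * (z * m⁻¹) := by group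
        _ = m * w * (m⁻¹ * (m * z) * m⁻¹) := by group
        _ = m * w * (m⁻¹ * (z * m) * m⁻¹) := by rw [cm z hz]
        _ = m * w * m⁻¹ * z := by group
    rw [e1, hwz, e2]
  set v := m * n * m⁻¹ with hv
  have hQl : ∀ g ∈ Q, ∀ x ∈ l c, g * x = x * g := fun g hg x hx =>
    mem_c.1 (mem_inf.1 hg).2 x (hNA c (h.lN c hx))
  have hAQ : ∀ a ∈ A, ∀ g ∈ Q, a * g * a⁻¹ ∈ Q := by
    intro a ha g hg
    have h1 : a ∈ normalizer (Q : Set G) := by
      have h2 : ∀ b, cj a (N b) = N b := fun b => cj_eq_of_mem_normalizer (h.TN b (hAT ha))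
      have h3 : cj a (⨆ b, N b) = ⨆ b, N b := by
        rw [cj, Subgroup.map_iSup]
        exact iSup_congr h2
      rw [mem_normalizer_iff_cj, hQ, cj_inf, cj_centralizer, h3,
        cj_eq_of_mem_normalizer (Subgroup.le_normalizer (hAT ha))]
    exact (mem_normalizer_iff.1 h1 g).1 hg
  -- the component at `c` is trivial
  have hcomp : ∀ g ∈ Q, ∀ w ∈ cj m (l c), ∀ z ∈ Z', v * g * v⁻¹ * g⁻¹ = w * z → w = 1 := by
    intro g hg w hw z hz hwz
    have hwN : w ∈ N c := hmlN hw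
    have h1 : w ∈ N c ⊓ centralizer (A : Set G) := by
      refine ⟨hwN, mem_c.2 fun a ha => ?_⟩
      -- `a w a⁻¹ w⁻¹ ∈ l c ∩ (l c)^m`
      have hx : a * v * a⁻¹ * v⁻¹ ∈ l c := hinl a ha
      set x := a * v * a⁻¹ * v⁻¹ with hxdef
      set g' := a * g * a⁻¹ with hg'def
      have hg' : g' ∈ Q := hAQ a ha g hg
      obtain ⟨w1, hw1, z1, hz1, hwz1⟩ := hdec g' hg'
      have hxN : x ∈ N c := h.lN c hx
      have e1 : a * (v * g * v⁻¹ * g⁻¹) * a⁻¹ = v * g' * v⁻¹ * g'⁻¹ := by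
        have e2 : a * (v * g * v⁻¹ * g⁻¹) * a⁻¹ = (x * v) * g' * (x * v)⁻¹ * g'⁻¹ := by
          rw [hxdef, hg'def]; group
        have e3 : (x * v) * g' * (x * v)⁻¹ * g'⁻¹ = x * (v * g' * v⁻¹ * g'⁻¹) * (g' * x⁻¹ * g'⁻¹) := by group
        have e4 : g' * x⁻¹ * g'⁻¹ = x⁻¹ := by
          rw [hQl g' hg' x⁻¹ (inv_mem hx), mul_inv_cancel_right]
        have hcomm : x * (v * g' * v⁻¹ * g'⁻¹) = (v * g' * v⁻¹ * g'⁻¹) * x := by
          have e5 : v * g' * v⁻¹ * g'⁻¹ = w1 * z1 := hwz1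
          rw [e5]
          calc x * (w1 * z1) = (x * w1) * z1 := by group
            _ = (w1 * x) * z1 := by rw [mem_c.1 (h.com c c hxN) w1 (hmlN hw1)]
            _ = w1 * (x * z1) := by group
            _ = w1 * (z1 * x) := by rw [hcomN x hxN z1 hz1]
            _ = (w1 * z1) * x := by group
        rw [e2, e3, e4, hcomm, mul_inv_cancel_right]
      have e5 : a * (v * g * v⁻¹ * g⁻¹) * a⁻¹ = (a * w * a⁻¹) * z := by
        rw [hwz]
        calc a * (w * z) * a⁻¹ = a * w * a⁻¹ * (a * z * a⁻¹) := by group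
          _ = a * w * a⁻¹ * z := by rw [cA a ha z hz, mul_inv_cancel_right]
      have e6 : v * g' * v⁻¹ * g'⁻¹ = w1 * z1 := hwz1
      have haw : a * w * a⁻¹ ∈ N c := (mem_normalizer_iff.1 (h.TN c (hAT ha)) w).1 hwN
      have e7 : (a * w * a⁻¹) * z = w1 * z1 := by rw [← e5, e1, e6]
      have e8 : w1⁻¹ * (a * w * a⁻¹) = z1 * z⁻¹ := by
        calc w1⁻¹ * (a * w * a⁻¹) = w1⁻¹ * ((a * w * a⁻¹) * z) * z⁻¹ := by group
          _ = w1⁻¹ * (w1 * z1) * z⁻¹ := by rw [e7]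
          _ = z1 * z⁻¹ := by group
      have e9 : w1⁻¹ * (a * w * a⁻¹) = 1 :=
        hdis _ (mul_mem (inv_mem (hmlN hw1)) haw) (e8 ▸ mul_mem hz1 (inv_mem hz))
      have e10 : a * w * a⁻¹ = w1 := by
        calc a * w * a⁻¹ = w1 * (w1⁻¹ * (a * w * a⁻¹)) := by group
          _ = w1 := by rw [e9, mul_one]
      have e11 : a * w * a⁻¹ * w⁻¹ ∈ cj m (l c) ⊓ l c :=
        mem_inf.2 ⟨(cj m (l c)).mul_mem (e10.symm ▸ hw1) ((cj m (l c)).inv_mem hw), hF.inl a ha w hwN⟩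
      rw [ml] at e11
      have e12 : a * w * a⁻¹ = w := mul_inv_eq_one.1 (mem_bot.1 e11)
      calc w * a = (a * w * a⁻¹) * a := by rw [e12]
        _ = a * w := by group
    rw [hcA] at h1
    have h2 : w ∈ cj m (l c) ⊓ l c := ⟨hw, h1⟩
    rw [ml] at h2
    exact mem_bot.1 h2
  intro g hg
  have hg' : m * g * m⁻¹ ∈ Q := (mem_normalizer_iff.1 mQ g).1 hg
  obtain ⟨w, hw, z, hz, hwz⟩ := hdec _ hg'
  have h1 := hcomp _ hg' w hw z hz hwz
  rw [h1, one_mul] at hwz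
  have e1 : n * g * n⁻¹ * g⁻¹ = m⁻¹ * (v * (m * g * m⁻¹) * v⁻¹ * (m * g * m⁻¹)⁻¹) * m := by rw [hv]; group
  have e2 : m⁻¹ * z * m = z := by rw [mul_assoc, ← cm z hz]; group
  rw [e1, hwz, e2]
  exact hz

/-- `N c ∩ ∏_{b ≠ c} l b = 1` -/
theorem dis_of (h : Fr T O R N l E j) {c : ι} {m : G} (mb : ∀ b, b ≠ c → m ∈ centralizer (N b : Set G))
    (ml : cj m (l c) ⊓ l c = ⊥) {A : Subgroup G} (hF : Full A (N c) (l c))
    (hAb : ∀ b, b ≠ c → A ≤ centralizer (N b : Set G)) {z : G} (hz : z ∈ N c)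
    (hz' : z ∈ ⨆ b : {b // b ≠ c}, l b) : z = 1 := by
  have cA : ∀ a ∈ A, a * z = z * a := by
    intro a ha
    have h1 : (⨆ b : {b // b ≠ c}, l b) ≤ centralizer ({a} : Set G) := iSup_le fun b y hy => by
      rw [mem_centralizer_singleton_iff]
      exact (mem_c.1 (hAb b b.2 ha) y (h.lN b hy)).symm
    exact (mem_centralizer_singleton_iff.1 (h1 hz')).symm
  have cm : m * z = z * m := by
    have h1 : (⨆ b : {b // b ≠ c}, l b) ≤ centralizer ({m} : Set G) := iSup_le fun b y hy => by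
      rw [mem_centralizer_singleton_iff]
      exact (mem_c.1 (mb b b.2) y (h.lN b hy)).symm
    exact (mem_centralizer_singleton_iff.1 (h1 hz')).symm
  have h1 : z ∈ l c := by
    rw [← hF.inf_eq (h.lN c) (h.lne c)]
    exact ⟨hz, mem_c.2 fun a ha => (cA a ha).symm⟩
  have h2 : z ∈ cj m (l c) := by
    rw [mem_cj]
    have e : m⁻¹ * z * m = z := by rw [mul_assoc, ← cm]; group
    rwa [e]
  have h3 : z ∈ cj m (l c) ⊓ l c := ⟨h2, h1⟩
  rw [ml] at h3
  exact mem_bot.1 h3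

/-- **(A2)** : `U ≰ Z_J` ⟹ some member of `AA(O)` is not in `O₂(R)`. -/
theorem atwo [Finite ι] (hFF : FFThm.Stmt.{u}) (h : Fr T O R N l E j)
    (lamj : ∃ a, a ≠ j ∧ ∃ m, m ∈ normalizer (E a : Set G) ∧ m ∈ normalizer (N j : Set G) ∧
      (∀ b, b ≠ j → m ∈ centralizer (N b : Set G)) ∧
      m ∈ normalizer ((T ⊓ centralizer ((⨆ b, N b : Subgroup G) : Set G) : Subgroup G) : Set G) ∧
      cj m (l j) ⊓ l j = ⊥)
    (hU : ¬ zl T R ≤ ⨆ b, l b) : ∃ A ∈ AA O, ¬ A ≤ o2 R := by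
  classical
  by_contra hcon
  push Not at hcon
  set Q : Subgroup G := T ⊓ centralizer ((⨆ b, N b : Subgroup G) : Set G) with hQ
  set ZJ : Subgroup G := ⨆ b, l b with hZJ
  set U : Subgroup G := zl T R with hUdef
  set B : Subgroup G := T ⊓ centralizer (ZJ : Set G) with hB
  have hUT : U ≤ T := h.UO.trans h.OT
  have hlN : ∀ b, l b ≤ N b := h.lN
  have hUB : U ≤ B := by
    refine le_inf hUT ?_
    have h1 : ZJ ≤ centralizer (U : Set G) := iSup_le fun b x hx => mem_c.2 fun u hu => h.commU b x (hlN b hx) u hu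
    exact fun u hu => mem_c.2 fun x hx => (mem_c.1 (h1 hx) u hu).symm
  have hBT : B ≤ T := inf_le_left
  have hBU : B ≤ normalizer (U : Set G) := (hBT.trans h.TR).trans h.R_norm_U
  have hBZ : B ≤ normalizer (ZJ : Set G) := inf_le_right.trans (centralizer_le_normalizer _)
  obtain ⟨n, hnU, hnZ, hnB⟩ := exists_fixed_mod (h.two.to_le hBT) hUB hBU hBZ hU
  have hQB : Q ≤ B := le_inf inf_le_left (inf_le_right.trans
    (centralizer_le (SetLike.coe_subset_coe.2 (iSup_mono hlN))))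
  have hnQ : ∀ g ∈ Q, n * g * n⁻¹ * g⁻¹ ∈ ZJ := by
    intro g hg
    have h1 := ZJ.inv_mem (hnB g (hQB hg))
    have e : (g * n * g⁻¹ * n⁻¹)⁻¹ = n * g * n⁻¹ * g⁻¹ := by group
    rwa [e] at h1
  have key : ∀ c, (∀ g ∈ Q, n * g * n⁻¹ * g⁻¹ ∈ ⨆ b : {b // b ≠ c}, l b) ∧
      ∀ z ∈ l c, (z ∈ ⨆ b : {b // b ≠ c}, l b) → z = 1 := by
    intro c
    obtain ⟨a', ha', cE, m, mE, mN, mb, mQ, ml⟩ : ∃ a', a' ≠ j ∧ N c ≤ E a' ∧ ∃ m, m ∈ normalizer (E a' : Set G) ∧
        m ∈ normalizer (N c : Set G) ∧ (∀ b, b ≠ c → m ∈ centralizer (N b : Set G)) ∧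
        m ∈ normalizer (Q : Set G) ∧ cj m (l c) ⊓ l c = ⊥ := by
      by_cases hcj : c = j
      · subst hcj
        obtain ⟨a, ha, m, hm⟩ := lamj
        exact ⟨a, ha, h.jE a ha, m, hm⟩
      · obtain ⟨m, hm⟩ := h.lam c hcj
        exact ⟨c, hcj, h.NE c hcj, m, hm⟩
    obtain ⟨A, hA, hAc, hAb⟩ := h.pure c
    have hAT : A ≤ T := hA.2.1.trans h.OT
    have hF : Full A (N c) (l c) := (h.T_one ha' (h.EO a' ha') cE hA hAT).resolve_left hAc
    refine ⟨h.move_or ha' cE mE mN mb mQ ml hA hF hAb (h.UE ha' hnU) hnQ ?_, fun z hz hz' =>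
      h.dis_of mb ml hF hAb (hlN c hz) hz'⟩
    by_contra hmv
    set A0 : Subgroup G := A ⊓ centralizer (N c : Set G) with hA0
    have hcNA : N c ⊓ centralizer (A : Set G) = l c := hF.inf_eq (hlN c) (h.lne c)
    have hE1 : A0 ⊔ N c ∈ AA O := by
      refine swap_mem hA (h.Neab c) (h.NO c) ?_
      rw [hcNA, hF.cardA, h.cardN c]
      exact le_of_eq (by ring)
    have hE2 := Cfsg.Agent.ZN.ChoiceBase.cj_mem_AA m⁻¹ hE1
    have hEO' : E a' ≤ cj m⁻¹ O := by
      rw [← cj_eq_of_mem_normalizer (inv_mem mE)]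
      exact cj_mono _ (h.EO a' ha')
    have hA0Q : A0 ≤ Q := by
      refine le_inf (inf_le_left.trans hAT) ?_
      have h1 : (⨆ b, N b) ≤ centralizer (A0 : Set G) := by
        refine iSup_le fun b => ?_
        by_cases hb : b = c
        · subst hb
          exact NoFF.Basic.comm_symm inf_le_right
        · exact NoFF.Basic.comm_symm (inf_le_left.trans (hAb b hb))
      exact NoFF.Basic.comm_symm h1
    have hE2T : cj m⁻¹ (A0 ⊔ N c) ≤ T := by
      rw [cj, Subgroup.map_sup]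
      refine sup_le ?_ ?_
      · have h1 := cj_mono m⁻¹ hA0Q
        rw [cj_eq_of_mem_normalizer (inv_mem mQ)] at h1
        exact h1.trans inf_le_left
      · exact (cj_eq_of_mem_normalizer (inv_mem mN)).le.trans ((h.NO c).trans h.OT)
    have hE2U : ¬ cj m⁻¹ (A0 ⊔ N c) ≤ centralizer (U : Set G) := by
      intro h1
      apply hmv
      intro a ha
      have h2 : m⁻¹ * a * m ∈ cj m⁻¹ (A0 ⊔ N c) := by
        have := conj_cj (g := m⁻¹) (mem_sup_left (T := N c) ha)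
        rwa [inv_inv] at this
      have h3 := mem_c.1 (h1 h2) n hnU
      calc m * n * m⁻¹ * a = m * (n * (m⁻¹ * a * m)) * m⁻¹ := by group
        _ = m * ((m⁻¹ * a * m) * n) * m⁻¹ := by rw [h3]
        _ = a * (m * n * m⁻¹) := by group
    have hE2Q : ¬ cj m⁻¹ (A0 ⊔ N c) ≤ o2 R := fun h1 => hE2U (h1.trans h.o2U)
    have hno : FFThm.NoOver (zl T R) R :=
      (hFF G T R h.syl h.par h.cR ⟨cj m⁻¹ (A0 ⊔ N c), hE2T.trans h.TR, hE2.1, hE2U,
        thom hE2 h.Ueab ((h.UE ha').trans hEO')⟩).1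
    obtain ⟨A1, hA1, hA1j, -⟩ := h.pure j
    apply hA1j
    have hA1Q := hcon A1 hA1
    have hA1T : A1 ≤ T := hA1.2.1.trans h.OT
    intro q hq
    refine h.pat hno ha' hEO' ⟨_, hE2, hE2T, hE2Q⟩ (h.cent_l ha' (h.EO a' ha') (h.jE a' ha') hA1 hA1T hq)
      fun x hx => ?_
    have h1 : cj x A1 ≤ o2 R := by
      rw [← cj_eq_of_mem_normalizer (Cfsg.Agent.ZN.ChoiceSit.le_normalizer_o2 R hx)]
      exact cj_mono _ hA1Q
    exact ⟨h1 (conj_cj hq), h.inl_of ha' (h.EO a' ha') (h.jE a' ha') hA1 hx (h1.trans h.o2T) _ (conj_cj hq)⟩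
  -- `[n, Q] = 1`
  have : Fintype ι := Fintype.ofFinite ι
  have hn1 : ∀ g ∈ Q, n * g * n⁻¹ * g⁻¹ = 1 := by
    intro g hg
    have claim : ∀ s : Finset ι, n * g * n⁻¹ * g⁻¹ ∈ ⨆ b : {b // b ∉ s}, l b := by
      intro s
      induction s using Finset.induction_on with
      | empty =>
        refine (iSup_le fun b => ?_ : (⨆ b, l b) ≤ _) (hnQ g hg)
        exact le_iSup (fun b : {b // b ∉ (∅ : Finset ι)} => l b) ⟨b, Finset.notMem_empty b⟩
      | insert c s hcs ih =>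
        have h1 : (⨆ b : {b // b ∉ s}, l b) ≤ l c ⊔ ⨆ b : {b // b ∉ insert c s}, l b := by
          refine iSup_le fun b => ?_
          by_cases hb : (b : ι) = c
          · rw [hb]; exact le_sup_left
          · refine le_trans ?_ le_sup_right
            exact le_iSup (fun b : {b // b ∉ insert c s} => l b)
              ⟨b, fun h2 => (Finset.mem_insert.1 h2).elim hb b.2⟩
        have hle : (⨆ b : {b // b ∉ insert c s}, l b) ≤ ⨆ b : {b // b ≠ c}, l b := by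
          refine iSup_le fun b => ?_
          exact le_iSup (fun b : {b // b ≠ c} => l b) ⟨b, fun h2 => b.2 (Finset.mem_insert.2 (Or.inl h2))⟩
        have hcomm : ∀ x ∈ l c, ∀ z ∈ ⨆ b : {b // b ∉ insert c s}, l b, x * z = z * x := by
          intro x hx z hz
          have h2 : (⨆ b : {b // b ∉ insert c s}, l b) ≤ centralizer (N c : Set G) :=
            iSup_le fun b => (hlN b).trans (h.com b c)
          exact (mem_c.1 (h2 hz) x (hlN c hx)).symm
        obtain ⟨u, hu, z, hz, e⟩ := mem_sup_comm hcomm (h1 ih)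
        have hu1 : u = 1 := by
          refine (key c).2 u hu ?_
          have e2 : u = (n * g * n⁻¹ * g⁻¹) * z⁻¹ := by rw [e]; group
          rw [e2]
          exact mul_mem ((key c).1 g hg) (inv_mem (hle hz))
        rw [e, hu1, one_mul]
        exact hz
    have h1 := claim Finset.univ
    have h2 : (⨆ b : {b // b ∉ (Finset.univ : Finset ι)}, l b) ≤ ⊥ :=
      iSup_le fun b => absurd (Finset.mem_univ (b : ι)) b.2
    exact mem_bot.1 (h2 h1)
  have hnQ1 : ∀ g ∈ Q, n * g = g * n := fun g hg => comm_of_one (hn1 g hg)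
  -- `B = Q · ∏ A_b`
  have hcover : ∀ t ∈ B, ∀ s : Finset ι, ∃ y ∈ B, n * y = y * n ∧ ∀ b ∈ s, y⁻¹ * t ∈ centralizer (N b : Set G) := by
    intro t ht s
    induction s using Finset.induction_on with
    | empty => exact ⟨1, one_mem _, by rw [mul_one, one_mul], fun b hb => absurd hb (Finset.notMem_empty b)⟩
    | insert c s hcs ih =>
      obtain ⟨y, hy, hny, hys⟩ := ih
      obtain ⟨A, hA, hAc, hAb⟩ := h.pure c
      have hAT : A ≤ T := hA.2.1.trans h.OT
      have hF : Full A (N c) (l c) := by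
        obtain ⟨c', hc', hcE⟩ := h.exists_E c
        exact (h.T_one hc' (h.EO c' hc') hcE hA hAT).resolve_left hAc
      have hAl : ∀ b, A ≤ centralizer (l b : Set G) := by
        intro b
        obtain ⟨c', hc', hcE⟩ := h.exists_E b
        exact h.cent_l hc' (h.EO c' hc') hcE hA hAT
      have hyt : y⁻¹ * t ∈ B := mul_mem (inv_mem hy) ht
      have hyl : y⁻¹ * t ∈ centralizer (l c : Set G) :=
        centralizer_le (SetLike.coe_subset_coe.2 (le_iSup l c)) hyt.2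
      obtain ⟨a, ha, hat⟩ := h.rep c A hAT hF _ (hBT hyt) hyl
      have haB : a ∈ B := by
        refine ⟨hAT ha, ?_⟩
        have h1 : ZJ ≤ centralizer ({a} : Set G) := iSup_le fun b x hx => by
          rw [mem_centralizer_singleton_iff]
          exact (mem_c.1 (hAl b ha) x hx).symm
        exact mem_c.2 fun x hx => (mem_centralizer_singleton_iff.1 (h1 hx)).symm
      have hna : n * a = a * n := (mem_c.1 (h.o2U (hcon A hA ha)) n hnU).symm
      refine ⟨y * a, mul_mem hy haB, ?_, fun b hb => ?_⟩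
      · calc n * (y * a) = (n * y) * a := by group
          _ = y * (n * a) := by rw [hny]; group
          _ = (y * a) * n := by rw [hna]; group
      · have e : (y * a)⁻¹ * t = a⁻¹ * (y⁻¹ * t) := by group
        rw [e]
        rcases Finset.mem_insert.1 hb with rfl | hb
        · exact hat
        · have hbc : b ≠ c := fun h2 => hcs (h2 ▸ hb)
          exact mul_mem (inv_mem (hAb b hbc ha)) (hys b hb)
  apply hnZ
  refine h.I4 (mem_zc.2 ⟨hUB hnU, ?_, fun t ht => ?_⟩)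
  · exact h.Ueab.2 n hnU
  · obtain ⟨y, hy, hny, hys⟩ := hcover t ht Finset.univ
    have h1 : y⁻¹ * t ∈ Q := by
      refine ⟨hBT (mul_mem (inv_mem hy) ht), ?_⟩
      have h2 : (⨆ b, N b) ≤ centralizer ({y⁻¹ * t} : Set G) := iSup_le fun b x hx => by
        rw [mem_centralizer_singleton_iff]
        exact (mem_c.1 (hys b (Finset.mem_univ b)) x hx).symm
      exact mem_c.2 fun x hx => (mem_centralizer_singleton_iff.1 (h2 hx)).symm
    have h3 := hnQ1 _ h1
    calc t * n = y * ((y⁻¹ * t) * n) := by group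
      _ = y * (n * (y⁻¹ * t)) := by rw [h3]
      _ = (y * n) * (y⁻¹ * t) := by group
      _ = (n * y) * (y⁻¹ * t) := by rw [hny]
      _ = n * t := by group

end Fr

end Cfsg.Agent.Omega.NOThreeL.RWide.UniT
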