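import Cfsg.Agent.Mrg.Omega.NOThreeL.RWide.UniT.Exc
import Cfsg.Agent.Mrg.Omega.NOThreeL.FFB.Rp2
import Cfsg.Agent.Mrg.Omega.NOThreeL.RWide.UniT.Fr

section


/-!
# UNI_T, (A2) of helper528 #27296: if `U ≰ Z_J` then some member of `AA(O)` is not in `O₂(R)`

* `Fr.atwoB` : over the frame `Fr` and an element `m ∈ L j` moving the line `l j`.
-/

set_option autoImplicit false
set_option linter.unusedSectionVars false

namespace Cfsg.Agent.Omega.NOThreeL.RWide.UniT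

open Subgroup Cfsg Cfsg.Agent.Omega.MinPar
open Cfsg.Agent.ZN (zc o2 zl)
open Cfsg.Agent.ZN.ChoiceBase (cj cj_mono cj_inf cj_centralizer cj_eq_of_mem_normalizer mem_cj mem_normalizer_iff_cj
  cj_cj_inv cj_inv_cj cj_cj cj_one isPGroup_cj card_cj AA mem_normalizer_of_cj_le cj_le_iff isElementaryAbelian_cj
  cj_mem_AA)
open Cfsg.Agent.ZN.ChoiceSit (Syl syl_not_dvd le_normalizer_o2 o2_le_syl o2_le)
open Cfsg.Agent.MinSimple.MinParabolic (IsMinPar)
open Cfsg.Agent.MinSimple.VModule (mem_zc)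
open Cfsg.Agent.Omega.SQ1.Bau (mem_sup_comm)

universe u v

variable {G : Type u} [Group G] {ι : Type v}

namespace Fr

variable [Finite G] {T O R : Subgroup G} {N l E : ι → Subgroup G} {j : ι} (h : Fr T O R N l E j)
include h

theorem finι : Finite ι := by
  refine Finite.of_injective N fun a b hab => ?_
  by_contra hne
  apply h.lne a
  rw [eq_bot_iff, ← h.dis a b hne, ← hab, inf_idem]
  exact h.lN a

/-- the element of `L c` for every block -/
theorem lamAll (lamj : ∃ a, a ≠ j ∧ ∃ m, m ∈ normalizer (E a : Set G) ∧ m ∈ normalizer (N j : Set G) ∧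
      (∀ b, b ≠ j → m ∈ centralizer (N b : Set G)) ∧
      m ∈ normalizer ((T ⊓ centralizer ((⨆ b, N b : Subgroup G) : Set G) : Subgroup G) : Set G) ∧
      cj m (l j) ⊓ l j = ⊥) (c : ι) :
    ∃ a, a ≠ j ∧ N c ≤ E a ∧ ∃ m, m ∈ normalizer (E a : Set G) ∧ m ∈ normalizer (N c : Set G) ∧
      (∀ b, b ≠ c → m ∈ centralizer (N b : Set G)) ∧
      m ∈ normalizer ((T ⊓ centralizer ((⨆ b, N b : Subgroup G) : Set G) : Subgroup G) : Set G) ∧
      cj m (l c) ⊓ l c = ⊥ := by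
  by_cases hc : c = j
  · subst hc
    obtain ⟨a, ha, m, hm⟩ := lamj
    exact ⟨a, ha, h.jE a ha, m, hm⟩
  · obtain ⟨m, hm⟩ := h.lam c hc
    exact ⟨c, hc, h.NE c hc, m, hm⟩

theorem centL {A : Subgroup G} (hA : A ∈ AA O) (b : ι) : A ≤ centralizer (l b : Set G) := by
  obtain ⟨c, hc, hb⟩ := h.exists_E b
  exact h.cent_l hc (h.EO c hc) hb hA (hA.2.1.trans h.OT)

/-- `w ∈ ∏ l b`, every `w^(m c)` centralised by the pure member `A c`: `w = 1` -/
theorem det (A : ι → Subgroup G) (hA : ∀ c, A c ∈ AA O) (hAc : ∀ c, ¬ A c ≤ centralizer (N c : Set G))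
    (hAb : ∀ c b, b ≠ c → A c ≤ centralizer (N b : Set G)) (m : ι → G) (hmN : ∀ c, m c ∈ normalizer (N c : Set G))
    (hmC : ∀ c b, b ≠ c → m c ∈ centralizer (N b : Set G)) (hml : ∀ c, cj (m c) (l c) ⊓ l c = ⊥)
    (s : Finset ι) : ∀ w ∈ ⨆ b ∈ s, l b, (∀ c, ∀ a ∈ A c, a * (m c * w * (m c)⁻¹) = (m c * w * (m c)⁻¹) * a) → w = 1 := by
  classical
  induction s using Finset.induction_on with
  | empty =>
    intro w hw _
    simpa using hw
  | insert c s hcs ih =>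
    intro w hw hc
    rw [Finset.iSup_insert] at hw
    have hcomm : ∀ x ∈ l c, ∀ y ∈ ⨆ b ∈ s, l b, x * y = y * x := by
      intro x hx y hy
      have h1 : (⨆ b ∈ s, l b) ≤ centralizer (l c : Set G) :=
        iSup₂_le fun b _ => (h.lN b).trans ((h.com b c).trans (centralizer_le (h.lN c)))
      exact (mem_c.1 (h1 hy) x hx).symm
    obtain ⟨x, hx, y, hy, rfl⟩ := mem_sup_comm hcomm hw
    have hyb : ∀ g : G, (∀ b ∈ s, g ∈ centralizer (l b : Set G)) → g * y = y * g := by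
      intro g hg
      have h1 : (⨆ b ∈ s, l b) ≤ centralizer ((zpowers g : Subgroup G) : Set G) := by
        refine iSup₂_le fun b hb v hv => ?_
        rw [mem_centralizer_iff]
        rintro _ ⟨k, rfl⟩
        exact (Commute.zpow_left (show Commute g v from mem_c.1 (hg b hb) v hv) k)
      exact (mem_centralizer_iff.1 (h1 hy)) _ (mem_zpowers _)
    have hbc : ∀ b ∈ s, b ≠ c := fun b hb e => hcs (e ▸ hb)
    have hmy : m c * y * (m c)⁻¹ = y := by
      rw [hyb (m c) fun b hb => centralizer_le (h.lN b) (hmC c b (hbc b hb)), mul_inv_cancel_right]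
    have e1 : m c * (x * y) * (m c)⁻¹ = (m c * x * (m c)⁻¹) * y := by
      calc m c * (x * y) * (m c)⁻¹ = (m c * x * (m c)⁻¹) * (m c * y * (m c)⁻¹) := by group
        _ = _ := by rw [hmy]
    -- `A c` centralises `x^m`
    have hxm : m c * x * (m c)⁻¹ ∈ N c := by
      have := conj_cj (g := m c) (h.lN c hx)
      rwa [cj_eq_of_mem_normalizer (hmN c)] at this
    have h2 : ∀ a ∈ A c, a * (m c * x * (m c)⁻¹) = (m c * x * (m c)⁻¹) * a := by
      intro a ha
      have h3 := hc c a ha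
      rw [e1] at h3
      have h4 : a * y = y * a := hyb a fun b hb => centralizer_le (h.lN b) (hAb c b (hbc b hb) ha)
      have e2 : a * (m c * x * (m c)⁻¹) * y = (m c * x * (m c)⁻¹) * a * y := by
        calc a * (m c * x * (m c)⁻¹) * y = a * ((m c * x * (m c)⁻¹) * y) := by group
          _ = ((m c * x * (m c)⁻¹) * y) * a := h3
          _ = (m c * x * (m c)⁻¹) * (y * a) := by group
          _ = (m c * x * (m c)⁻¹) * (a * y) := by rw [h4]
          _ = _ := by group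
      exact mul_right_cancel e2
    obtain ⟨c', hc', hcE⟩ := h.exists_E c
    have hF : Full (A c) (N c) (l c) :=
      (h.T_one hc' (h.EO c' hc') hcE (hA c) ((hA c).2.1.trans h.OT)).resolve_left (hAc c)
    have h3 : m c * x * (m c)⁻¹ ∈ l c := by
      rw [← hF.inf_eq (h.lN c) (h.lne c)]
      exact mem_inf.2 ⟨hxm, mem_c.2 fun a ha => (h2 a ha).symm⟩
    have h4 : m c * x * (m c)⁻¹ ∈ cj (m c) (l c) ⊓ l c := mem_inf.2 ⟨conj_cj hx, h3⟩
    rw [hml c, mem_bot] at h4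
    have hx1 : x = 1 := by
      have e3 : x = (m c)⁻¹ * (m c * x * (m c)⁻¹) * m c := by group
      rw [e3, h4]; group
    subst hx1
    rw [one_mul] at hc ⊢
    exact ih y hy hc

/-- an element of `C_T(∏ l b)` centralises what `Q` and the pure members centralise -/
theorem comm_B (A : ι → Subgroup G) (hA : ∀ c, A c ∈ AA O) (hAc : ∀ c, ¬ A c ≤ centralizer (N c : Set G))
    (hAb : ∀ c b, b ≠ c → A c ≤ centralizer (N b : Set G)) {n : G}
    (hQ : ∀ g ∈ T ⊓ centralizer ((⨆ b, N b : Subgroup G) : Set G), g * n = n * g)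
    (hAn : ∀ c, ∀ a ∈ A c, a * n = n * a) {t : G} (ht : t ∈ T)
    (htl : ∀ b, t ∈ centralizer (l b : Set G)) : t * n = n * t := by
  classical
  have := h.finι
  have := Fintype.ofFinite ι
  have key : ∀ s : Finset ι, ∃ k ∈ T, k * n = n * k ∧ (∀ b, k ∈ centralizer (l b : Set G)) ∧
      ∀ b ∈ s, k⁻¹ * t ∈ centralizer (N b : Set G) := by
    intro s
    induction s using Finset.induction_on with
    | empty => exact ⟨1, one_mem _, by simp, fun b => one_mem _, by simp⟩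
    | insert c s hcs ih =>
      obtain ⟨k, hk, hkn, hkl, hks⟩ := ih
      obtain ⟨c', hc', hcE⟩ := h.exists_E c
      have hAT : A c ≤ T := (hA c).2.1.trans h.OT
      have hF : Full (A c) (N c) (l c) := (h.T_one hc' (h.EO c' hc') hcE (hA c) hAT).resolve_left (hAc c)
      obtain ⟨a, ha, haN⟩ := h.rep c (A c) hAT hF (k⁻¹ * t) (mul_mem (inv_mem hk) ht)
        (mul_mem (inv_mem (hkl c)) (htl c))
      refine ⟨k * a, mul_mem hk (hAT ha), ?_, fun b => mul_mem (hkl b) (h.centL (hA c) b ha), fun b hb => ?_⟩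
      · rw [mul_assoc, hAn c a ha, ← mul_assoc, hkn, mul_assoc]
      · rw [mul_inv_rev, mul_assoc]
        rcases Finset.mem_insert.1 hb with rfl | hb
        · exact haN
        · exact mul_mem (inv_mem (hAb c b (fun e => hcs (e ▸ hb)) ha)) (hks b hb)
  obtain ⟨k, hk, hkn, -, hks⟩ := key Finset.univ
  have h1 : k⁻¹ * t ∈ T ⊓ centralizer ((⨆ b, N b : Subgroup G) : Set G) := by
    refine mem_inf.2 ⟨mul_mem (inv_mem hk) ht, ?_⟩
    have h2 : (⨆ b, N b) ≤ centralizer ((zpowers (k⁻¹ * t) : Subgroup G) : Set G) := by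
      refine iSup_le fun b v hv => ?_
      rw [mem_centralizer_iff]
      rintro _ ⟨i, rfl⟩
      exact (Commute.zpow_left (show Commute (k⁻¹ * t) v from mem_c.1 (hks b (Finset.mem_univ b)) v hv) i)
    rw [mem_c]
    intro x hx
    exact (mem_centralizer_iff.1 (h2 hx)) _ (mem_zpowers _)
  have h2 := hQ _ h1
  have e : t = k * (k⁻¹ * t) := by group
  rw [e, mul_assoc, h2, ← mul_assoc, hkn, mul_assoc]

/-- **(A2)** -/
theorem atwoB (hFF : FFThm.Stmt.{u}) (lamj : ∃ a, a ≠ j ∧ ∃ m, m ∈ normalizer (E a : Set G) ∧ m ∈ normalizer (N j : Set G) ∧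
      (∀ b, b ≠ j → m ∈ centralizer (N b : Set G)) ∧
      m ∈ normalizer ((T ⊓ centralizer ((⨆ b, N b : Subgroup G) : Set G) : Subgroup G) : Set G) ∧
      cj m (l j) ⊓ l j = ⊥) (hU : ¬ zl T R ≤ ⨆ b, l b) : ∃ A ∈ AA O, ¬ A ≤ o2 R := by
  classical
  by_contra hcon
  push Not at hcon
  have := h.finι
  have := Fintype.ofFinite ι
  set V : Subgroup G := ⨆ b, N b with hV
  set Z : Subgroup G := ⨆ b, l b with hZ
  set Q := T ⊓ centralizer (V : Set G) with hQ
  have hNV : ∀ b, N b ≤ V := le_iSup N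
  have hZV : Z ≤ V := iSup_mono h.lN
  have hVcomm : ∀ g : G, (∀ b, g ∈ centralizer (N b : Set G)) → g ∈ centralizer (V : Set G) := by
    intro g hg
    have h2 : V ≤ centralizer ((zpowers g : Subgroup G) : Set G) := by
      refine iSup_le fun b v hv => ?_
      rw [mem_centralizer_iff]
      rintro _ ⟨i, rfl⟩
      exact (Commute.zpow_left (show Commute g v from mem_c.1 (hg b) v hv) i)
    rw [mem_c]
    intro x hx
    exact (mem_centralizer_iff.1 (h2 hx)) _ (mem_zpowers _)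
  have hVO : V ≤ O := iSup_le h.NO
  have hVT : V ≤ T := hVO.trans h.OT
  have hVQ : V ≤ Q := le_inf hVT (iSup_le fun b v hv => hVcomm v fun c => h.com b c hv)
  have hUQ : zl T R ≤ Q := le_inf (h.UO.trans h.OT) fun u hu => hVcomm u fun b => mem_c.2 fun v hv =>
    (h.commU b v hv u hu).symm
  have hQV : ∀ g ∈ Q, ∀ v ∈ V, g * v = v * g := fun g hg v hv => mem_c.1 (mem_inf.1 hg).2 v hv
  choose A hA hAc hAb using h.pure
  have hAT : ∀ c, A c ≤ T := fun c => (hA c).2.1.trans h.OT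
  have hAcb : ∀ c b, b ≠ c → A c ≤ centralizer (N b : Set G) := fun c b hb => hAb c b hb
  choose a ha hNa m hmE hmN hmC hmQ hml using h.lamAll lamj
  have hF : ∀ c, Full (A c) (N c) (l c) := fun c =>
    (h.T_one (ha c) (h.EO _ (ha c)) (hNa c) (hA c) (hAT c)).resolve_left (hAc c)
  -- a vector of `U` fixed modulo `Z`
  have hTZ : T ≤ normalizer (Z : Set G) := by
    intro t ht
    refine mem_normalizer_of_cj_le ?_
    show Subgroup.map _ Z ≤ _
    rw [hZ, Subgroup.map_iSup]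
    exact iSup_mono fun b => (cj_eq_of_mem_normalizer (h.Tl b ht)).le
  obtain ⟨n, hn, hnZ, hnT⟩ := Cfsg.Agent.Omega.NOThreeL.FFB.exists_fix_mod h.two (h.UO.trans h.OT)
    (h.TR.trans h.R_norm_U) hTZ hU
  have hAn : ∀ c, ∀ a ∈ A c, a * n = n * a := fun c a' ha' => mem_c.1 (h.o2U (hcon _ (hA c) ha')) n hn
  have hnn : n ^ 2 = 1 := (h.Ueab).2 n hn
  -- `Q` moves `n`
  obtain ⟨g0, hg0, hg0n⟩ : ∃ g ∈ Q, g * n ≠ n * g := by
    by_contra hc
    push Not at hc
    apply hnZ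
    refine h.I4 (mem_zc.2 ⟨mem_inf.2 ⟨(mem_inf.1 (hUQ hn)).1, centralizer_le hZV (mem_inf.1 (hUQ hn)).2⟩, fun t ht => ?_, hnn⟩)
    exact h.comm_B A hA hAc hAcb hc hAn (mem_inf.1 ht).1 fun b => centralizer_le (le_iSup l b) (mem_inf.1 ht).2
  set w := n * g0 * n⁻¹ * g0⁻¹ with hw
  have hnZ' : ∀ g ∈ Q, n * g * n⁻¹ * g⁻¹ ∈ Z := by
    intro g hg
    have h1 := inv_mem (hnT g (mem_inf.1 hg).1)
    have e1 : (g * n * g⁻¹ * n⁻¹)⁻¹ = n * g * n⁻¹ * g⁻¹ := by group
    rwa [e1] at h1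
  have hw1 : w ≠ 1 := fun h1 => hg0n (comm_of_one h1).symm
  -- the block `c`
  obtain ⟨c, a0, ha0, ha0w⟩ : ∃ c, ∃ a0 ∈ A c, a0 * (m c * w * (m c)⁻¹) ≠ (m c * w * (m c)⁻¹) * a0 := by
    by_contra hc
    push Not at hc
    refine hw1 (h.det A hA hAc hAcb m hmN hmC hml Finset.univ w ?_ hc)
    have := hnZ' g0 hg0
    rw [hZ] at this
    simpa using this
  set f := m c * n * (m c)⁻¹ with hf
  have hfE : f ∈ E (a c) := by
    have := conj_cj (g := m c) (h.UE (ha c) hn)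
    rwa [cj_eq_of_mem_normalizer (hmE c)] at this
  have hfQ : f ∈ Q := by
    have := conj_cj (g := m c) (hUQ hn)
    rwa [cj_eq_of_mem_normalizer (hmQ c)] at this
  set A0 := A c ⊓ centralizer (N c : Set G) with hA0
  have hA0Q : A0 ≤ Q := by
    refine le_inf (inf_le_left.trans (hAT c)) fun x hx => hVcomm x fun b => ?_
    by_cases hb : b = c
    · subst hb
      exact (mem_inf.1 hx).2
    · exact hAcb c b hb (mem_inf.1 hx).1
  have hE1 : A0 ⊔ N c ∈ AA O := by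
    refine swap_mem (hA c) (h.Neab c) (h.NO c) ?_
    rw [(hF c).inf_eq (h.lN c) (h.lne c), (hF c).cardA, h.cardN c]
    exact le_of_eq (by ring)
  have hcA : ∀ α ∈ A0, ∀ n ∈ N c, α * n = n * α := fun α hα n hn => mem_c.1 (mem_inf.1 hα).2 n hn
  -- `A₀` moves `f`
  obtain ⟨α, hα, hαf⟩ : ∃ α ∈ A0, α * f ≠ f * α := by
    by_contra hc0
    push Not at hc0
    have hfz : zpowers f ≤ E (a c) := by rwa [zpowers_le]
    have hfE1 : f ∈ A0 ⊔ N c := by
      refine cent_le hE1 (eab_mono (h.eab _ (ha c)) hfz) (hfz.trans (h.EO _ (ha c)))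
        (mem_inf.2 ⟨mem_zpowers f, ?_⟩)
      rw [mem_c]
      intro x hx
      obtain ⟨α, hα, n', hn', rfl⟩ := mem_sup_comm hcA hx
      rw [← mul_assoc, ← hc0 α hα, mul_assoc, hQV f hfQ n' (hNV c hn'), mul_assoc]
    obtain ⟨α, hα, n', hn', hfan⟩ := mem_sup_comm hcA hfE1
    have hAf : ∀ x ∈ A c, x * f * x⁻¹ * f⁻¹ ∈ l c := by
      intro x hx
      have e1 : x * α = α * x := eab_comm (hA c).1 hx (mem_inf.1 hα).1
      have e2 : x * (α * n') * x⁻¹ * (α * n')⁻¹ = α * (x * n' * x⁻¹ * n'⁻¹) * α⁻¹ := by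
        calc x * (α * n') * x⁻¹ * (α * n')⁻¹ = (x * α) * n' * x⁻¹ * n'⁻¹ * α⁻¹ := by group
          _ = (α * x) * n' * x⁻¹ * n'⁻¹ * α⁻¹ := by rw [e1]
          _ = _ := by group
      rw [hfan, e2]
      have h1 := (hF c).inl x hx n' hn'
      rw [hcA α hα _ (h.lN c h1), mul_inv_cancel_right]
      exact h1
    have hy : ∀ g ∈ Q, f * g * f⁻¹ * g⁻¹ ∈ cj (m c) Z := by
      intro g hg
      have h1 : (m c)⁻¹ * g * m c ∈ Q := by
        have := conj_cj (g := (m c)⁻¹) hg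
        rwa [cj_eq_of_mem_normalizer (inv_mem (hmQ c)), inv_inv] at this
      have h2 := conj_cj (g := m c) (hnZ' _ h1)
      have e1 : m c * (n * ((m c)⁻¹ * g * m c) * n⁻¹ * ((m c)⁻¹ * g * m c)⁻¹) * (m c)⁻¹ = f * g * f⁻¹ * g⁻¹ := by
        rw [hf]; group
      rwa [e1] at h2
    have hmV : cj (m c) Z ≤ V := by
      rw [hZ]
      show Subgroup.map _ (⨆ b, l b) ≤ _
      rw [Subgroup.map_iSup]
      refine iSup_le fun b => ?_
      by_cases hb : b = c
      · subst hb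
        refine le_trans (cj_mono (m b) (h.lN b)) ?_
        rw [cj_eq_of_mem_normalizer (hmN b)]
        exact hNV b
      · refine le_trans (cj_mono (m c) (h.lN b)) ?_
        rw [cj_eq_of_mem_normalizer (centralizer_le_normalizer _ (hmC c b hb))]
        exact hNV b
    set g1 := m c * g0 * (m c)⁻¹ with hg1
    have hg1Q : g1 ∈ Q := by
      have := conj_cj (g := m c) hg0
      rwa [cj_eq_of_mem_normalizer (hmQ c)] at this
    have hwm : m c * w * (m c)⁻¹ = f * g1 * f⁻¹ * g1⁻¹ := by rw [hw, hf, hg1]; group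
    have h1 : a0 * (m c * w * (m c)⁻¹) * a0⁻¹ ∈ cj (m c) Z := by
      obtain ⟨z', hz', hzf⟩ : ∃ z' ∈ l c, a0 * f * a0⁻¹ = z' * f := ⟨_, hAf a0 ha0, by group⟩
      have hz'V : z' ∈ V := hNV c (h.lN c hz')
      have hg' : a0 * g1 * a0⁻¹ ∈ Q := by
        have := conj_cj (g := a0) hg1Q
        rwa [cj_eq_of_mem_normalizer (h.T_norm_Q (hAT c ha0))] at this
      have e1 : a0 * (m c * w * (m c)⁻¹) * a0⁻¹ = (a0 * f * a0⁻¹) * (a0 * g1 * a0⁻¹) * (a0 * f * a0⁻¹)⁻¹ *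
          (a0 * g1 * a0⁻¹)⁻¹ := by
        rw [hwm]; group
      set g' := a0 * g1 * a0⁻¹ with hg'def
      have e2 : z' * f * g' * (z' * f)⁻¹ * g'⁻¹ = z' * (f * g' * f⁻¹ * g'⁻¹) * z'⁻¹ := by
        have e3 : z'⁻¹ * g'⁻¹ = g'⁻¹ * z'⁻¹ := (show Commute z' g' from (hQV g' hg' z' hz'V).symm).inv_inv.eq
        calc z' * f * g' * (z' * f)⁻¹ * g'⁻¹ = z' * f * g' * f⁻¹ * (z'⁻¹ * g'⁻¹) := by group
          _ = _ := by rw [e3]; group
      rw [e1, hzf, e2]
      have h2 := hy g' hg'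
      have h3 : z' * (f * g' * f⁻¹ * g'⁻¹) = (f * g' * f⁻¹ * g'⁻¹) * z' := hQV z' (hVQ hz'V) _ (hmV h2)
      rw [h3, mul_inv_cancel_right]
      exact h2
    -- `z = [a0, w^m] ∈ cj m Z ∩ l c`
    set z := a0 * (m c * w * (m c)⁻¹) * a0⁻¹ * (m c * w * (m c)⁻¹)⁻¹ with hz
    have hz1 : z ≠ 1 := fun h2 => ha0w (comm_of_one h2)
    have hzm : z ∈ cj (m c) Z := mul_mem h1 (inv_mem (conj_cj (hnZ' g0 hg0)))
    have hzl : z ∈ l c := by
      -- `A c` acts on `V` with values in `l c`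
      have key : ∀ v ∈ V, a0 * v * a0⁻¹ * v⁻¹ ∈ l c := by
        intro v hv
        rw [hV] at hv
        induction hv using Subgroup.iSup_induction' with
        | hp b x hx =>
          by_cases hb : b = c
          · subst hb
            exact (hF b).inl a0 ha0 x hx
          · rw [comm_one (mem_c.1 (hAcb c b hb ha0) x hx)]
            exact one_mem _
        | h1 => simp
        | hmul x y hx hy ihx ihy =>
          have e1 : a0 * (x * y) * a0⁻¹ * (x * y)⁻¹ = (a0 * x * a0⁻¹ * x⁻¹) * (x * (a0 * y * a0⁻¹ * y⁻¹) * x⁻¹) := by group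
          have h2 : x * (a0 * y * a0⁻¹ * y⁻¹) = (a0 * y * a0⁻¹ * y⁻¹) * x :=
            hQV x (hVQ hx) _ (hNV c (h.lN c ihy))
          rw [e1, h2, mul_inv_cancel_right]
          exact mul_mem ihx ihy
      exact key _ (hmV (conj_cj (hnZ' g0 hg0)))
    have h4 : (m c)⁻¹ * z * m c ∈ Z := mem_cj.1 hzm
    have h5 : (m c)⁻¹ * z * m c ∈ l c := by
      rw [← (hF c).inf_eq (h.lN c) (h.lne c)]
      refine mem_inf.2 ⟨?_, mem_c.2 fun x hx => ?_⟩
      · have := conj_cj (g := (m c)⁻¹) (h.lN c hzl)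
        rwa [cj_eq_of_mem_normalizer (inv_mem (hmN c)), inv_inv] at this
      · have h6 : x ∈ centralizer (Z : Set G) := by
          have h7 : Z ≤ centralizer ((zpowers x : Subgroup G) : Set G) := by
            refine iSup_le fun b v hv => ?_
            rw [mem_centralizer_iff]
            rintro _ ⟨i, rfl⟩
            exact (Commute.zpow_left (show Commute x v from mem_c.1 (h.centL (hA c) b hx) v hv) i)
          rw [mem_c]
          intro y hy
          exact (mem_centralizer_iff.1 (h7 hy)) _ (mem_zpowers _)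
        exact (mem_c.1 h6 _ h4).symm
    have h6 : z ∈ cj (m c) (l c) ⊓ l c := mem_inf.2 ⟨mem_cj.2 h5, hzl⟩
    rw [hml c, mem_bot] at h6
    exact hz1 h6
  -- the family `O' = O^(m⁻¹)`
  have hEQ : cj (m c)⁻¹ (A0 ⊔ N c) ≤ Q :=
    (cj_mono _ (sup_le hA0Q ((hNV c).trans hVQ))).trans (cj_eq_of_mem_normalizer (inv_mem (hmQ c))).le
  have hE' : cj (m c)⁻¹ (A0 ⊔ N c) ∈ AA (cj (m c)⁻¹ O) := cj_mem_AA _ hE1
  have haO : E (a c) ≤ cj (m c)⁻¹ O :=
    (cj_eq_of_mem_normalizer (inv_mem (hmE c))).ge.trans (cj_mono _ (h.EO _ (ha c)))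
  have hE'T : cj (m c)⁻¹ (A0 ⊔ N c) ≤ T := hEQ.trans inf_le_left
  have hmvU : ¬ cj (m c)⁻¹ (A0 ⊔ N c) ≤ centralizer (zl T R : Set G) := by
    intro h1
    have h2 : (m c)⁻¹ * α * m c ∈ cj (m c)⁻¹ (A0 ⊔ N c) := by
      have := conj_cj (g := (m c)⁻¹) (le_sup_left (a := A0) (b := N c) hα)
      rwa [inv_inv] at this
    have h3 := mem_c.1 (h1 h2) n hn
    apply hαf
    have e1 : α * f = m c * (((m c)⁻¹ * α * m c) * n) * (m c)⁻¹ := by rw [hf]; group
    have e2 : f * α = m c * (n * ((m c)⁻¹ * α * m c)) * (m c)⁻¹ := by rw [hf]; group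
    rw [e1, e2, h3]
  have hex : ∃ A' ∈ AA (cj (m c)⁻¹ O), A' ≤ T ∧ ¬ A' ≤ o2 R :=
    ⟨_, hE', hE'T, fun h1 => hmvU (h1.trans h.o2U)⟩
  have hno : FFThm.NoOver (zl T R) R := (hFF G T R h.syl h.par h.cR
    ⟨_, hE'T.trans h.TR, FFThm.off_of_AA h.Ueab ((h.UE (ha c)).trans haO) hE' hmvU⟩).1
  -- the end
  refine hAc j fun q hq => h.pat hno (ha c) haO hex (h.centL (hA j) j hq) fun x hx => ?_
  have h1 : cj x (A j) ≤ o2 R :=
    (cj_mono _ (hcon _ (hA j))).trans (cj_eq_of_mem_normalizer (le_normalizer_o2 R hx)).le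
  obtain ⟨c', hc', hcE⟩ := h.exists_E j
  exact ⟨h1 (conj_cj hq), h.inl_of hc' (h.EO c' hc') hcE (hA j) hx (h1.trans h.o2T) _ (conj_cj hq)⟩

end Fr

end Cfsg.Agent.Omega.NOThreeL.RWide.UniT

end

section


/-!
# UNI_T: the active case (#27590)

`active`, **`active'`** : if some `A ∈ AA(O)` is not in `O₂(R)` then `R` normalises `⨆ b, N b` (over `Fr`).
-/

set_option autoImplicit false
set_option linter.unusedSectionVars false

namespace Cfsg.Agent.Omega.NOThreeL.RWide.UniT.Act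

open Subgroup Cfsg Cfsg.Agent.Omega.MinPar
open Cfsg.Agent.ZN (zc o2 zl)
open Cfsg.Agent.ZN.ChoiceBase (cj cj_mono cj_cj cj_inv_cj mem_cj mem_normalizer_iff_cj AA)
open Cfsg.Agent.Omega.SQ1.Bau (mem_sup_comm)
open Cfsg.Agent.Omega.NOThreeL.RWide.UniT.YY (X3 Exc)
open Cfsg.Agent.Omega.FFThm (Off NoOver)

universe u v

variable {G : Type u} [Group G] {ι : Type v} [Finite G] {T O R : Subgroup G} {N l E : ι → Subgroup G} {j : ι}

theorem off_U (h : Fr T O R N l E j) {A : Subgroup G} (hA : A ∈ AA O) (hAQ : ¬ A ≤ o2 R) : Off (zl T R) A := by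
  have hAT : A ≤ T := hA.2.1.trans h.OT
  refine ⟨hA.1, fun h1 => hAQ ?_, thom hA h.Ueab h.UO⟩
  rw [← h.UQ]
  exact le_inf hAT h1

theorem noOver (hFF : FFThm.Stmt.{u}) (h : Fr T O R N l E j) (hA : ∃ A ∈ AA O, ¬ A ≤ o2 R) :
    NoOver (zl T R) R := by
  obtain ⟨A, hA, hAQ⟩ := hA
  exact (hFF G T R h.syl h.par h.cR ⟨A, (hA.2.1.trans h.OT).trans h.TR, off_U h hA hAQ⟩).1

theorem x3_of (h : Fr T O R N l E j) (hno : NoOver (zl T R) R) (hA : ∃ A ∈ AA O, ¬ A ≤ o2 R) :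
    ∃ A, X3 T O R N l j A := by
  obtain ⟨A₁, hA₁, hA₁Q⟩ := hA
  obtain ⟨A, hA, hAN, hAc⟩ := h.pure j
  obtain ⟨c, hc⟩ := h.ex
  have hcO := h.EO c hc
  have hAT : A ≤ T := hA.2.1.trans h.OT
  obtain ⟨h1, h2, h3, h4, h5, h6⟩ :=
    h.x3 hno hc hcO ⟨A₁, hA₁, hA₁.2.1.trans h.OT, hA₁Q⟩ hA hAT hAN
  refine ⟨A, hA, hAc, h1, h2, h3, fun v hv => ?_, h5, h6⟩
  have hcU : ∀ u ∈ zl T R, ∀ x ∈ (N j ⊔ zl T R) ⊓ centralizer (A : Set G), u * x = x * u := by
    intro u hu x hx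
    exact eab_comm (h.eab c hc) (h.UE hc hu) ((sup_le (h.jE c hc) (h.UE hc) : N j ⊔ zl T R ≤ E c)
      (mem_inf.1 hx).1)
  obtain ⟨u, hu, x, hx, e⟩ := mem_sup_comm hcU (h4 (mem_sup_left hv))
  exact ⟨u, hu, x, (mem_inf.1 hx).2, e⟩

theorem exc_of (h : Fr T O R N l E j) (hno : NoOver (zl T R) R) {A : Subgroup G} (hA : A ∈ AA O)
    (hAQ : ¬ A ≤ o2 R) : ∃ y ∈ R, Exc T R N l A y := by
  have hAT : A ≤ T := hA.2.1.trans h.OT
  obtain ⟨y, hy, hg⟩ := h.gen hAT hAQ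
  refine ⟨y, hy, fun b => ?_⟩
  obtain ⟨c, hc, hbc⟩ := h.exists_E b
  have hcO := h.EO c hc
  have hex := h.exc hno hc hcO hbc hA hAT hy
  refine ⟨fun h1 => ?_, fun h1 => ?_⟩
  · rcases hex with h2 | ⟨h2, -⟩
    · exact h.norm_sup hA.1 hAT hy hg h2
    · exact absurd h1 h2
  · rcases hex with h2 | ⟨-, h2⟩
    · exfalso
      apply h1
      have h3 := (h.exact hno hc hcO hA hAT).1
      intro a ha
      exact mem_c.2 fun v hv => eab_comm h3 (mem_sup_left ha) (h2 hv)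
    · refine hg _ (h.Tl b) fun a' ha' => ?_
      have haA : y * a' * y⁻¹ ∈ A := by
        have := mem_cj.1 ha'
        rwa [inv_inv] at this
      rw [mem_normalizer_iff_cj]
      have h3 := congrArg (cj y⁻¹) (h2 _ haA)
      rw [cj_cj, cj_cj, cj_inv_cj] at h3
      have e : y⁻¹ * (y * a' * y⁻¹) * y = a' := by group
      rwa [e] at h3

/-- **The active case.** -/
theorem active (hFF : FFThm.Stmt.{u}) (h : Fr T O R N l E j) (hA : ∃ A ∈ AA O, ¬ A ≤ o2 R)
    (fixV : ∀ c, c ≠ j → ∀ X : Subgroup G, X ≤ E c →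
      X ≤ T ⊓ centralizer ((⨆ b, N b : Subgroup G) : Set G) →
      (∀ x ∈ X, ∀ g ∈ T ⊓ centralizer ((⨆ b, N b : Subgroup G) : Set G), x * g * x⁻¹ * g⁻¹ ∈ l c) →
      T ⊓ centralizer ((⨆ b, N b : Subgroup G) : Set G) ≤ centralizer (X : Set G)) :
    R ≤ normalizer ((⨆ b, N b : Subgroup G) : Set G) := by
  have hno := noOver hFF h hA
  obtain ⟨A, x⟩ := x3_of h hno hA
  obtain ⟨y, hy, e⟩ := exc_of h hno x.mem x.nQ
  exact YY.main hFF h x hy e fixV

/-- **The active case**, `fixV` plugged. -/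
theorem active' (hFF : FFThm.Stmt.{u}) (h : Fr T O R N l E j) (hA : ∃ A ∈ AA O, ¬ A ≤ o2 R) :
    R ≤ normalizer ((⨆ b, N b : Subgroup G) : Set G) :=
  active hFF h hA fun _ hc _ hX hXQ hl => h.fixV' hc hX hXQ hl

end Cfsg.Agent.Omega.NOThreeL.RWide.UniT.Act

end
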