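import Cfsg.Agent.Mrg.Omega.NOThreeL.RWide.UniT.Plug
import Cfsg.Agent.Mrg.Omega.NOThreeL.RWide.UniT.ATwo
import Cfsg.Agent.Mrg.Omega.NOThreeL.RWide.UniT.FrOf
import Cfsg.Agent.Mrg.Omega.NOThreeL.RWide.ParQ.AOne
import Cfsg.Agent.Mrg.Omega.NOThreeL.RRed.UInstW
import Cfsg.Agent.Mrg.Omega.FFBr.Final


/-!
# `parT` (helper995 #27590, helper528 #27296): the end

* `rts_of` : `Rts` from `TFm`, lines, `allT`;
* **`parT_of_allT`** : `parT` if every block is moved by a member of `AA(O₂(C_G(Ω₁Z(T))))`;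
* **`parX`** : `RRed.UPar.ParX` (no input).
-/

set_option autoImplicit false
set_option linter.unusedSectionVars false

namespace Cfsg.Agent.Omega.NOThreeL.RWide.UniT

open Subgroup Cfsg Cfsg.Agent.Omega.MinPar Cfsg.Agent.Omega.Frame
open Cfsg.Agent.ZN (zc o2 zl)
open Cfsg.Agent.ZN.ChoiceBase (cj AA)
open Cfsg.Agent.MinSimple.MinParabolic (IsMinPar)
open Cfsg.Agent.Omega.EDel.ThmU (XF)
open Cfsg.Agent.Omega.NOThreeL.RWide.TAct (TT BB Tf OT)
open Cfsg.Agent.Omega.NOThreeL.RWide.ParQ (toTf)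

universe u v

section fin

variable {G : Type u} [Group G] [Finite G] {ι : Type v} [Finite ι] [Nonempty ι] {S : Sylow 2 G} {V : Subgroup G}
  {N l E : ι → Subgroup G}

/-- **`Rts`** -/
theorem rts_of (h : TFm S V N l E) (hc : IsCharacteristicTwoType G) (three : ∀ i j : ι, ∃ k, k ≠ i ∧ k ≠ j)
    (allT : ∀ b, ∃ A ∈ AA (OT (TT (S : Subgroup G) N)), ¬ A ≤ centralizer (N b : Set G)) :
    Rts (TT (S : Subgroup G) N) (OT (TT (S : Subgroup G) N)) N l := by
  refine rts h.toBls S.isPGroup' (ParQ.OT_le h) (ParQ.N_le_O h hc three) allT ?_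
  have e1 : BB (S : Subgroup G) l = TT (S : Subgroup G) N ⊓ centralizer ((⨆ b, l b : Subgroup G) : Set G) :=
    le_antisymm (le_inf (toTf h).BT inf_le_right) (le_inf (inf_le_left.trans inf_le_left) inf_le_right)
  have h2 := h.I4
  rwa [e1] at h2

/-- **`parT`** -/
theorem parT_of_allT (hFF : FFThm.Stmt.{u}) (hc : IsCharacteristicTwoType G) (h : TFm S V N l E)
    (three : ∀ i j : ι, ∃ k, k ≠ i ∧ k ≠ j)
    (ln : ∀ c ∈ centralizer (zc (S : Subgroup G) : Set G), ∀ b, ∃ b', cj c (l b) = l b')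
    (allT : ∀ b, ∃ A ∈ AA (OT (TT (S : Subgroup G) N)), ¬ A ≤ centralizer (N b : Set G)) :
    ∀ j P, IsMinPar (TT (S : Subgroup G) N) P → P ≤ YY (TAct.FF (S : Subgroup G) N l) j →
      P ≤ centralizer (TAct.FF (S : Subgroup G) N l j : Set G) ∨ ∀ i, P ≤ normalizer (N i : Set G) :=
  parT_of' hFF hc h three ln (rts_of h hc three allT)
    (fun _ _ hP hPY hm hU b => ParQ.case_zl h hc three ln
      (fun b => (allT b).imp fun _ hA => ⟨ParQ.AA_mx hA.1, hA.2⟩) hP hPY hm hU b)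
    (fun j _ hfr _ hU => hfr.atwo hFF
      (lamj h.toBls (ParA.Glue.typ0 h three) j) hU)

end fin

/-- **`parX`** (helper848 #27137, helper258): the theorem `parT` -/
theorem parX : RRed.UPar.ParX.{u} := by
  intro G _ _ hG S V ι _ N l E h ln all three j
  have : Nonempty ι := ⟨j⟩
  have ln' : ∀ c ∈ centralizer (zc (S : Subgroup G) : Set G), ∀ b, ∃ b', cj c (l b) = l b' := ln
  exact parT_of_allT FFBr.ffthm hG.char2 h three ln' (allT ln' hG.char2 h three all) j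

end Cfsg.Agent.Omega.NOThreeL.RWide.UniT
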