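import Cfsg.Agent.Mrg.Omega.NOThreeL.RWide.UniT.Fr
import Cfsg.Agent.Omega.NOThreeL.RWide.TBlk
import Cfsg.Agent.Mrg.Omega.NOThreeL.RWide.PermNB
import Cfsg.Agent.Mrg.Omega.NOThreeL.RWide.NonT


/-!
# `Rts` (the blocks under `T`) from `Bls` (helper995 #27055, frame `UniT.Rts`)

`T = TT S N`, `N b = F²` with coordinates `e`, `T` upper triangular and semilinear on `N b`.

* `Cd` : coordinates of one block under `T`; `Cd.root`, `Cd.rt`, `Cd.rep`, `Cd.cardN`;
* `Cd.off` : **the ROOT LEMMA**: an offender is trivial or the full root group (fields included, by `SemiCnt.semi_cnt`);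
* `exists_pure` : **pure members** of `AA(O)`: a member of `AA(O)` which moves `N b` and moves the least number of blocks
  moves `N b` only (exactness on `N b × N c`);
* `rts` : the fields of `Rts (TT S N) O N l`.
-/

set_option autoImplicit false
set_option linter.unusedSectionVars false

namespace Cfsg.Agent.Omega.NOThreeL.RWide.UniT

open Subgroup Cfsg Cfsg.Agent.Omega.NOThreeL.RWide.TBlk Cfsg.Agent.Omega.NOThreeL.RWide.SemiCnt
open Cfsg.Agent.ZN (zc)
open Cfsg.Agent.ZN.ChoiceBase (cj AA cj_eq_of_mem_normalizer mem_normalizer_iff_cj)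

universe u v

variable {G : Type u} [Group G]

/-- coordinates of one block under `T` -/
structure Cd (T N l : Subgroup G) (F : Type) [Field F] (e : G → Fin 2 → F) : Prop where
  two : IsPGroup 2 T
  nor : T ≤ normalizer (N : Set G)
  mul : ∀ v ∈ N, ∀ w ∈ N, e (v * w) = e v + e w
  inj : ∀ v ∈ N, e v = 0 → v = 1
  sur : ∀ x : Fin 2 → F, ∃ v ∈ N, e v = x
  line : ∀ v, v ∈ l ↔ v ∈ N ∧ e v 1 = 0
  semi : ∀ s ∈ T, ∃ (σ : F ≃+* F) (a b d : F),
    ∀ v ∈ N, e (s * v * s⁻¹) = ![a * σ (e v 0) + b * σ (e v 1), d * σ (e v 1)]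

namespace Cd

variable {T N l : Subgroup G} {F : Type} [Field F] {e : G → Fin 2 → F} (h : Cd T N l F e)
include h

theorem one : e 1 = 0 := by
  have h1 := h.mul 1 (one_mem _) 1 (one_mem _)
  rw [mul_one] at h1
  exact left_eq_add.1 h1

theorem inv {v : G} (hv : v ∈ N) : e v⁻¹ = - e v := by
  have h1 := h.mul v⁻¹ (inv_mem hv) v hv
  rw [inv_mul_cancel, h.one] at h1
  exact eq_neg_of_add_eq_zero_left h1.symm

theorem eq_of {v w : G} (hv : v ∈ N) (hw : w ∈ N) (he : e v = e w) : v = w := by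
  have h1 : v * w⁻¹ = 1 := by
    refine h.inj _ (mul_mem hv (inv_mem hw)) ?_
    rw [h.mul _ hv _ (inv_mem hw), h.inv hw, he, add_neg_cancel]
  exact mul_inv_eq_one.1 h1

theorem eq_of2 {v w : G} (hv : v ∈ N) (hw : w ∈ N) (h0 : e v 0 = e w 0) (h1 : e v 1 = e w 1) : v = w := by
  refine h.eq_of hv hw (funext fun i => ?_)
  fin_cases i
  · exact h0
  · exact h1

theorem lN : l ≤ N := fun v hv => ((h.line v).1 hv).1

theorem cn {t : G} (ht : t ∈ T) {v : G} (hv : v ∈ N) : t * v * t⁻¹ ∈ N := (mem_normalizer_iff.1 (h.nor ht) v).1 hv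

theorem cl {t : G} (ht : t ∈ T) {v : G} (hv : v ∈ l) : t * v * t⁻¹ ∈ l := by
  obtain ⟨σ, a, b, d, hs⟩ := h.semi t ht
  obtain ⟨h1, h2⟩ := (h.line v).1 hv
  refine (h.line _).2 ⟨h.cn ht h1, ?_⟩
  rw [hs v h1, h2, map_zero, mul_zero, mul_zero]
  rfl

theorem Tl : T ≤ normalizer (l : Set G) := by
  intro t ht
  refine mem_normalizer_iff.2 fun v => ⟨fun hv => h.cl ht hv, fun hv => ?_⟩
  have h1 := h.cl (inv_mem ht) hv
  have e1 : t⁻¹ * (t * v * t⁻¹) * t⁻¹⁻¹ = v := by group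
  rwa [e1] at h1

theorem sq [CharP F 2] {v : G} (hv : v ∈ N) : v * v = 1 := by
  refine h.inj _ (mul_mem hv hv) ?_
  rw [h.mul _ hv _ hv]
  funext i
  exact CharTwo.add_self_eq_zero _

theorem lne : l ≠ ⊥ := by
  intro hl
  obtain ⟨v, hv, he⟩ := h.sur ![1, 0]
  have h1 : v ∈ l := (h.line v).2 ⟨hv, by rw [he]; rfl⟩
  rw [hl] at h1
  have h2 : v = 1 := mem_bot.1 h1
  rw [h2, h.one] at he
  exact zero_ne_one (congrFun he 0)

/-- an element of `T` which centralises the line acts as a root element -/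
theorem root [CharP F 2] {t : G} (ht : t ∈ T) (hl : t ∈ centralizer (l : Set G)) :
    ∃ c : F, ∀ v ∈ N, e (t * v * t⁻¹) = ![e v 0 + c * e v 1, e v 1] := by
  refine RootB.act_root h.sur h.line ?_ (h.nor ht) hl (h.semi t ht)
  obtain ⟨k, hk⟩ := h.two ⟨t, ht⟩
  exact ⟨k, by have := congrArg Subtype.val hk; simpa using this⟩

/-- the commutator with a root element -/
theorem comm {t : G} (ht : t ∈ T) {c : F} (hc : ∀ v ∈ N, e (t * v * t⁻¹) = ![e v 0 + c * e v 1, e v 1]) {v : G}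
    (hv : v ∈ N) : t * v * t⁻¹ * v⁻¹ ∈ N ∧ e (t * v * t⁻¹ * v⁻¹) 0 = c * e v 1 ∧ e (t * v * t⁻¹ * v⁻¹) 1 = 0 := by
  have h1 := h.cn ht hv
  have h2 : e (t * v * t⁻¹ * v⁻¹) = ![e v 0 + c * e v 1, e v 1] + - e v := by
    rw [h.mul _ h1 _ (inv_mem hv), h.inv hv, hc v hv]
  refine ⟨mul_mem h1 (inv_mem hv), ?_, ?_⟩
  · rw [h2]
    change e v 0 + c * e v 1 + - e v 0 = c * e v 1
    ring
  · rw [h2]
    change e v 1 + - e v 1 = 0
    ring

theorem zero {t : G} (ht : t ∈ T) (hc : ∀ v ∈ N, e (t * v * t⁻¹) = ![e v 0 + 0 * e v 1, e v 1]) :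
    t ∈ centralizer (N : Set G) := by
  rw [mem_centralizer_iff]
  intro v hv
  have h1 : t * v * t⁻¹ = v := by
    refine h.eq_of2 (h.cn ht hv) hv ?_ ?_
    · rw [hc v hv]
      change e v 0 + 0 * e v 1 = e v 0
      ring
    · rw [hc v hv]; rfl
  calc v * t = t * v * t⁻¹ * t := by rw [h1]
    _ = t * v := by group

theorem hit {t : G} (ht : t ∈ T) {c : F} (hc : ∀ v ∈ N, e (t * v * t⁻¹) = ![e v 0 + c * e v 1, e v 1]) {v z : G}
    (hv : v ∈ N) (hz : z ∈ l) (hcz : c * e v 1 = e z 0) : t * v * t⁻¹ * v⁻¹ = z := by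
  obtain ⟨h1, h2, h3⟩ := h.comm ht hc hv
  obtain ⟨h4, h5⟩ := (h.line z).1 hz
  exact h.eq_of2 h1 h4 (h2.trans hcz) (h3.trans h5.symm)

theorem inl {t : G} (ht : t ∈ T) {c : F} (hc : ∀ v ∈ N, e (t * v * t⁻¹) = ![e v 0 + c * e v 1, e v 1]) {v : G}
    (hv : v ∈ N) : t * v * t⁻¹ * v⁻¹ ∈ l := by
  obtain ⟨h1, -, h3⟩ := h.comm ht hc hv
  exact (h.line _).2 ⟨h1, h3⟩

theorem onN {t : G} (ht : t ∈ T) {c : F} (hc : ∀ v ∈ N, e (t * v * t⁻¹) = ![e v 0 + c * e v 1, e v 1]) (h0 : c ≠ 0)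
    {z : G} (hz : z ∈ l) : ∃ v ∈ N, t * v * t⁻¹ * v⁻¹ = z := by
  obtain ⟨v, hv, he⟩ := h.sur ![0, c⁻¹ * e z 0]
  refine ⟨v, hv, h.hit ht hc hv hz ?_⟩
  rw [he]
  change c * (c⁻¹ * e z 0) = e z 0
  rw [mul_inv_cancel_left₀ h0]

theorem ne_zero {t : G} (ht : t ∈ T) {c : F} (hc : ∀ v ∈ N, e (t * v * t⁻¹) = ![e v 0 + c * e v 1, e v 1])
    (hn : t ∉ centralizer (N : Set G)) : c ≠ 0 := by
  rintro rfl
  exact hn (h.zero ht hc)

theorem rt [CharP F 2] {t : G} (ht : t ∈ T) (hl : t ∈ centralizer (l : Set G)) :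
    (∀ v ∈ N, t * v * t⁻¹ * v⁻¹ ∈ l) ∧
      (t ∉ centralizer (N : Set G) → ∀ z ∈ l, ∃ v ∈ N, t * v * t⁻¹ * v⁻¹ = z) := by
  obtain ⟨c, hc⟩ := h.root ht hl
  exact ⟨fun v hv => h.inl ht hc hv, fun hn z hz => h.onN ht hc (h.ne_zero ht hc hn) hz⟩

theorem rep [CharP F 2] {A : Subgroup G} (hA : A ≤ T) (hF : Full A N l) {t : G} (ht : t ∈ T)
    (hl : t ∈ centralizer (l : Set G)) : ∃ a ∈ A, a⁻¹ * t ∈ centralizer (N : Set G) := by
  obtain ⟨c, hc⟩ := h.root ht hl
  obtain ⟨v₁, hv₁, he₁⟩ := h.sur ![0, 1]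
  have hv₁1 : e v₁ 1 = 1 := by rw [he₁]; rfl
  obtain ⟨z, hz, hez⟩ := h.sur ![c, 0]
  have hzl : z ∈ l := (h.line z).2 ⟨hz, by rw [hez]; rfl⟩
  have hv₁l : v₁ ∉ l := fun hh => by
    have h1 := ((h.line _).1 hh).2
    rw [hv₁1] at h1
    exact one_ne_zero h1
  obtain ⟨a, ha, haz⟩ := hF.onA v₁ hv₁ hv₁l z hzl
  obtain ⟨c', hc'⟩ := h.root (hA ha) (hF.cent ha)
  have h1 := (h.comm (hA ha) hc' hv₁).2.1
  rw [haz, hez, hv₁1, mul_one] at h1
  have h2 : c = c' := h1
  subst h2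
  refine ⟨a, ha, ?_⟩
  rw [mem_centralizer_iff]
  intro v hv
  have h3 : t * v * t⁻¹ = a * v * a⁻¹ := by
    refine h.eq_of (h.cn ht hv) (h.cn (hA ha) hv) ?_
    rw [hc v hv, hc' v hv]
  calc v * (a⁻¹ * t) = a⁻¹ * (a * v * a⁻¹) * t := by group
    _ = a⁻¹ * (t * v * t⁻¹) * t := by rw [h3]
    _ = a⁻¹ * t * v := by group

/-- `N ≃ F²` -/
noncomputable def ep : N ≃ (Fin 2 → F) :=
  Equiv.ofBijective (fun v : N => e v) ⟨fun v w hvw => Subtype.ext (h.eq_of v.2 w.2 hvw), fun x => by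
    obtain ⟨v, hv, he⟩ := h.sur x
    exact ⟨⟨v, hv⟩, he⟩⟩

theorem e_symm (x : Fin 2 → F) : e (h.ep.symm x : N) = x := h.ep.apply_symm_apply x

theorem symm_e {v : G} (hv : v ∈ N) : ((h.ep.symm (e v) : N) : G) = v :=
  congrArg Subtype.val (h.ep.symm_apply_apply ⟨v, hv⟩)

theorem card_N : Nat.card N = Nat.card F ^ 2 := by
  rw [Nat.card_congr h.ep, Nat.card_fun, Nat.card_eq_fintype_card (α := Fin 2), Fintype.card_fin]

theorem card_l : Nat.card l = Nat.card F := by
  refine Nat.card_congr (Equiv.ofBijective (fun v : l => e v 0) ⟨fun v w hvw => ?_, fun x => ?_⟩)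
  · have h1 := (h.line _).1 v.2
    have h2 := (h.line _).1 w.2
    exact Subtype.ext (h.eq_of2 h1.1 h2.1 hvw (h1.2.trans h2.2.symm))
  · obtain ⟨v, hv, he⟩ := h.sur ![x, 0]
    refine ⟨⟨v, (h.line v).2 ⟨hv, by rw [he]; rfl⟩⟩, ?_⟩
    change e v 0 = x
    rw [he]
    rfl

theorem cardN : Nat.card N = Nat.card l * Nat.card l := by
  rw [h.card_N, h.card_l, pow_two]

/-- the action of `A ≤ T` on `F²` -/
noncomputable def rho {A : Subgroup G} (hA : A ≤ T) : A →* Equiv.Perm (Fin 2 → F) :=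
  MonoidHom.toHomPerm
    { toFun := fun a => (fun x => e ((a : G) * ((h.ep.symm x : N) : G) * (a : G)⁻¹) : Function.End (Fin 2 → F))
      map_one' := by
        funext x
        change e ((1 : G) * ((h.ep.symm x : N) : G) * (1 : G)⁻¹) = x
        rw [one_mul, inv_one, mul_one, h.e_symm]
      map_mul' := by
        intro a b
        funext x
        change e ((a * b : G) * ((h.ep.symm x : N) : G) * (a * b : G)⁻¹) =
          e ((a : G) * ((h.ep.symm (e ((b : G) * ((h.ep.symm x : N) : G) * (b : G)⁻¹)) : N) : G) * (a : G)⁻¹)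
        rw [h.symm_e (h.cn (hA b.2) (h.ep.symm x).2)]
        congr 1
        group }

theorem rho_e {A : Subgroup G} (hA : A ≤ T) (a : A) {v : G} (hv : v ∈ N) :
    h.rho hA a (e v) = e ((a : G) * v * (a : G)⁻¹) := by
  change e ((a : G) * ((h.ep.symm (e v) : N) : G) * (a : G)⁻¹) = _
  rw [h.symm_e hv]

theorem ker_rho {A : Subgroup G} (hA : A ≤ T) (a : A) :
    a ∈ (h.rho hA).ker ↔ (a : G) ∈ centralizer (N : Set G) := by
  rw [MonoidHom.mem_ker, mem_centralizer_iff]
  constructor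
  · intro h1 v hv
    have h2 : e ((a : G) * v * (a : G)⁻¹) = e v := by
      rw [← h.rho_e hA a hv, h1]
      rfl
    have h3 := h.eq_of (h.cn (hA a.2) hv) hv h2
    calc v * (a : G) = (a : G) * v * (a : G)⁻¹ * a := by rw [h3]
      _ = (a : G) * v := by group
  · intro h1
    refine Equiv.ext fun x => ?_
    obtain ⟨v, hv, rfl⟩ := h.sur x
    rw [h.rho_e hA a hv]
    have h2 : (a : G) * v * (a : G)⁻¹ = v := by rw [← h1 v hv]; group
    rw [h2]
    rfl

theorem card_A [Finite G] {A : Subgroup G} (hA : A ≤ T) :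
    Nat.card A = Nat.card (h.rho hA).range * Nat.card ↥(A ⊓ centralizer (N : Set G)) := by
  have h1 := Subgroup.card_mul_index (h.rho hA).ker
  rw [Subgroup.index_ker] at h1
  have h2 : Nat.card (h.rho hA).ker = Nat.card ↥(A ⊓ centralizer (N : Set G)) :=
    Nat.card_congr
      { toFun := fun a => ⟨a.1.1, a.1.2, (h.ker_rho hA a.1).1 a.2⟩
        invFun := fun a => ⟨⟨a.1, a.2.1⟩, (h.ker_rho hA ⟨a.1, a.2.1⟩).2 a.2.2⟩
        left_inv := fun _ => rfl
        right_inv := fun _ => rfl }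
  rw [← h1, h2, mul_comm]

theorem card_fix {A : Subgroup G} (hA : A ≤ T) :
    Nat.card {v : Fin 2 → F // ∀ g, h.rho hA g v = v} = Nat.card ↥(N ⊓ centralizer (A : Set G)) := by
  symm
  refine Nat.card_congr (Equiv.ofBijective (fun v => ⟨e v.1, fun g => ?_⟩) ⟨fun v w hvw => ?_, ?_⟩)
  · rw [h.rho_e hA g v.2.1]
    have h1 : (g : G) * v.1 * (g : G)⁻¹ = v.1 := by
      rw [mem_centralizer_iff.1 v.2.2 g g.2]; group
    rw [h1]
  · exact Subtype.ext (h.eq_of v.2.1 w.2.1 (congrArg Subtype.val hvw))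
  · rintro ⟨x, hx⟩
    obtain ⟨v, hv, rfl⟩ := h.sur x
    refine ⟨⟨v, hv, mem_centralizer_iff.2 fun g hg => ?_⟩, rfl⟩
    have h1 := hx ⟨g, hg⟩
    rw [h.rho_e hA ⟨g, hg⟩ hv] at h1
    have h2 : g * v * g⁻¹ = v := h.eq_of (h.cn (hA hg) hv) hv h1
    calc g * v = g * v * g⁻¹ * g := by group
      _ = v * g := by rw [h2]

/-- **the ROOT LEMMA** -/
theorem off [Finite G] [Finite F] [CharP F 2] {A : Subgroup G} (hA : A ≤ T) (hAe : IsElementaryAbelian 2 A)
    (hle : Nat.card N * Nat.card ↥(A ⊓ centralizer (N : Set G)) ≤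
      Nat.card A * Nat.card ↥(N ⊓ centralizer (A : Set G))) :
    A ≤ centralizer (N : Set G) ∨ Full A N l := by
  classical
  by_cases hA0 : A ≤ centralizer (N : Set G)
  · exact Or.inl hA0
  right
  have hsq : ∀ a ∈ A, a * a = 1 := fun a ha => by
    have h1 := hAe.2 a ha
    rwa [pow_two] at h1
  have hsm : ∀ g, ∃ σ a b d, Sm (h.rho hA g) σ a b d := by
    intro g
    obtain ⟨σ, a, b, d, hs⟩ := h.semi g (hA g.2)
    refine ⟨σ, a, b, d, fun x => ?_⟩
    obtain ⟨v, hv, rfl⟩ := h.sur x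
    rw [h.rho_e hA g hv, hs v hv]
  have h2 : ∀ g v, h.rho hA g (h.rho hA g v) = v := by
    intro g v
    have h1 : g * g = 1 := Subtype.ext (hsq g g.2)
    rw [← Equiv.Perm.mul_apply, ← map_mul, h1, map_one]
    rfl
  obtain ⟨hc1, hc2⟩ := semi_cnt (h.rho hA) hsm h2
  have hcA := h.card_A hA
  rw [h.card_fix hA] at hc1 hc2
  have hpos : 0 < Nat.card ↥(A ⊓ centralizer (N : Set G)) := Nat.card_pos
  have heq : Nat.card (h.rho hA).range * Nat.card ↥(N ⊓ centralizer (A : Set G)) = Nat.card F ^ 2 := by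
    refine le_antisymm hc1 ?_
    rw [hcA, h.card_N] at hle
    refine Nat.le_of_mul_le_mul_right (hle.trans (le_of_eq ?_)) hpos
    ring
  have hline := hc2 heq
  -- `A` centralises the line
  have hAl : A ≤ centralizer (l : Set G) := by
    intro a ha
    rw [mem_centralizer_iff]
    intro z hz
    obtain ⟨hzN, hz1⟩ := (h.line z).1 hz
    have h3 : e z = ![e z 0, 0] := by
      funext i
      fin_cases i
      · rfl
      · exact hz1
    have h4 := hline ⟨a, ha⟩ (e z 0)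
    rw [← h3, h.rho_e hA ⟨a, ha⟩ hzN] at h4
    have h5 : a * z * a⁻¹ = z := h.eq_of (h.cn (hA ha) hzN) hzN h4
    calc z * a = a * z * a⁻¹ * a := by rw [h5]
      _ = a * z := by group
  have hroot : ∀ a : A, ∃ c : F, ∀ v ∈ N, e ((a : G) * v * (a : G)⁻¹) = ![e v 0 + c * e v 1, e v 1] :=
    fun a => h.root (hA a.2) (hAl a.2)
  choose c hc using hroot
  obtain ⟨a₀, ha₀, hn₀⟩ := SetLike.not_le_iff_exists.1 hA0
  have hc₀ : c ⟨a₀, ha₀⟩ ≠ 0 := h.ne_zero (hA ha₀) (hc ⟨a₀, ha₀⟩) hn₀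
  -- the fixed points form the line
  have hfix : N ⊓ centralizer (A : Set G) = l := by
    refine le_antisymm ?_ (le_inf h.lN (Subgroup.le_centralizer_iff.1 hAl))
    intro v hv
    obtain ⟨hvN, hvc⟩ := mem_inf.1 hv
    refine (h.line v).2 ⟨hvN, ?_⟩
    have h3 := (h.comm (hA ha₀) (hc ⟨a₀, ha₀⟩) hvN).2.1
    have h4 : a₀ * v * a₀⁻¹ * v⁻¹ = 1 := by rw [mem_centralizer_iff.1 hvc a₀ ha₀]; group
    change e (a₀ * v * a₀⁻¹ * v⁻¹) 0 = _ at h3
    rw [h4, h.one] at h3
    exact (mul_eq_zero.1 h3.symm).resolve_left hc₀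
  have hq : 0 < Nat.card F := Nat.card_pos
  have hrange : Nat.card (h.rho hA).range = Nat.card F := by
    rw [hfix, h.card_l, pow_two] at heq
    exact Nat.eq_of_mul_eq_mul_right hq heq
  -- all root elements occur
  have hval : ∀ a : A, (h.rho hA a ![0, 1]) 0 = c a := by
    intro a
    obtain ⟨v, hv, he⟩ := h.sur ![0, 1]
    rw [← he, h.rho_e hA a hv, hc a v hv, he]
    change (0 : F) + c a * 1 = c a
    ring
  have hall : ∀ x : F, ∃ a : A, c a = x := by
    have h3 : Function.Injective (fun r : (h.rho hA).range => (r.1 ![0, 1]) 0) := by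
      rintro ⟨r, a, rfl⟩ ⟨r', a', rfl⟩ hr
      have hr' : (h.rho hA a ![0, 1]) 0 = (h.rho hA a' ![0, 1]) 0 := hr
      rw [hval, hval] at hr'
      apply Subtype.ext
      refine Equiv.ext fun x => ?_
      obtain ⟨v, hv, rfl⟩ := h.sur x
      change h.rho hA a (e v) = h.rho hA a' (e v)
      rw [h.rho_e hA a hv, h.rho_e hA a' hv, hc a v hv, hc a' v hv, hr']
    have h4 := (Function.Injective.bijective_of_nat_card_le h3 hrange.ge).2
    intro x
    obtain ⟨⟨r, a, rfl⟩, hr⟩ := h4 x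
    exact ⟨a, (hval a).symm.trans hr⟩
  refine ⟨hAl, fun a ha v hv => h.inl (hA ha) (hc ⟨a, ha⟩) hv, fun v hv hvl z hz => ?_,
    fun a ha hn z hz => h.onN (hA ha) (hc ⟨a, ha⟩) (h.ne_zero (hA ha) (hc ⟨a, ha⟩) hn) hz, ?_, hA0⟩
  · have hv1 : e v 1 ≠ 0 := fun h0 => hvl ((h.line v).2 ⟨hv, h0⟩)
    obtain ⟨a, ha⟩ := hall (e z 0 * (e v 1)⁻¹)
    refine ⟨a, a.2, h.hit (hA a.2) (hc a) hv hz ?_⟩
    rw [ha, inv_mul_cancel_right₀ hv1]
  · rw [hcA, hrange, h.card_l, mul_comm]

end Cd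

/-! ### Pure members -/

namespace Root

section pure

variable {ι : Type v} {O A : Subgroup G} {N l : ι → Subgroup G}

/-- the fixed points of a full root group -/
theorem fix_eq {N l : Subgroup G} (hF : Full A N l) (lN : l ≤ N) (lne : l ≠ ⊥) :
    N ⊓ centralizer (A : Set G) = l := by
  refine le_antisymm (fun v hv => ?_) (le_inf lN (Subgroup.le_centralizer_iff.1 hF.cent))
  obtain ⟨hvN, hvc⟩ := mem_inf.1 hv
  by_contra hvl
  obtain ⟨z, hz, hz1⟩ : ∃ z ∈ l, z ≠ 1 := by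
    by_contra hcon
    push Not at hcon
    exact lne ((eq_bot_iff_forall l).2 hcon)
  obtain ⟨a, ha, he⟩ := hF.onA v hvN hvl z hz
  apply hz1
  rw [← he, mem_centralizer_iff.1 hvc a ha]
  group

theorem eab_of {N : Subgroup G} (hc : N ≤ centralizer (N : Set G)) (hs : ∀ v ∈ N, v * v = 1) :
    IsElementaryAbelian 2 N :=
  ⟨⟨⟨fun a b => Subtype.ext (mem_centralizer_iff.1 (hc b.2) a a.2)⟩⟩, fun a ha => by rw [pow_two]; exact hs a ha⟩

/-- if `A ∈ AA(O)` is full on `N` then `C_A(N) N ∈ AA(O)` -/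
theorem swap_full [Finite G] {N l : Subgroup G} (hA : A ∈ AA O) (hF : Full A N l) (lN : l ≤ N) (lne : l ≠ ⊥)
    (hc : N ≤ centralizer (N : Set G)) (hs : ∀ v ∈ N, v * v = 1) (hNO : N ≤ O)
    (cardN : Nat.card N = Nat.card l * Nat.card l) : (A ⊓ centralizer (N : Set G)) ⊔ N ∈ AA O := by
  refine swap_mem hA (eab_of hc hs) hNO (le_of_eq ?_)
  rw [fix_eq hF lN lne, hF.cardA, cardN]
  ring

/-- **pure members** -/
theorem exists_pure [Finite G] [Finite ι] (com : ∀ a b, N a ≤ centralizer (N b : Set G))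
    (sq : ∀ b, ∀ v ∈ N b, v * v = 1) (NO : ∀ b, N b ≤ O) (lN : ∀ b, l b ≤ N b) (dis : ∀ a b, a ≠ b → N a ⊓ N b = ⊥)
    (lne : ∀ b, l b ≠ ⊥) (nor : ∀ b, O ≤ normalizer (N b : Set G))
    (cardN : ∀ b, Nat.card (N b) = Nat.card (l b) * Nat.card (l b))
    (off : ∀ b, ∀ A ∈ AA O, A ≤ centralizer (N b : Set G) ∨ Full A (N b) (l b))
    (all : ∀ b, ∃ A ∈ AA O, ¬ A ≤ centralizer (N b : Set G)) (b : ι) :
    ∃ A ∈ AA O, ¬ A ≤ centralizer (N b : Set G) ∧ ∀ c, c ≠ b → A ≤ centralizer (N c : Set G) := by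
  have key : ∀ n : ℕ, ∀ A ∈ AA O, ¬ A ≤ centralizer (N b : Set G) →
      Set.ncard {c | ¬ A ≤ centralizer (N c : Set G)} ≤ n →
      ∃ A ∈ AA O, ¬ A ≤ centralizer (N b : Set G) ∧ ∀ c, c ≠ b → A ≤ centralizer (N c : Set G) := by
    intro n
    induction n with
    | zero =>
      intro A _ hb hn
      have h1 := (Set.ncard_eq_zero (Set.toFinite _)).1 (Nat.le_zero.1 hn)
      have h2 : b ∈ {c | ¬ A ≤ centralizer (N c : Set G)} := hb
      rw [h1] at h2
      exact absurd h2 (Set.notMem_empty b)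
    | succ n ih =>
      intro A hA hb hn
      by_cases hp : ∀ c, c ≠ b → A ≤ centralizer (N c : Set G)
      · exact ⟨A, hA, hb, hp⟩
      push Not at hp
      obtain ⟨c, hcb, hc⟩ := hp
      have hFc := (off c A hA).resolve_left hc
      have hFb := (off b A hA).resolve_left hb
      have hA' := swap_full hA hFc (lN c) (lne c) (com c c) (sq c) (NO c) (cardN c)
      refine ih _ hA' (fun hb' => ?_) ?_
      · -- `C_A(N c) ≤ C(N b)` : the count on `N b × N c`
        have h1 : A ⊓ centralizer (N c : Set G) ≤ centralizer (N b : Set G) := le_sup_left.trans hb'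
        have hX := Cfsg.Agent.PLocal.ElemAbSup.isElementaryAbelian_sup (eab_of (com b b) (sq b))
          (eab_of (com c c) (sq c)) (com c b)
        have h2 := thom hA hX (sup_le (NO b) (NO c))
        have h3 := Cfsg.Agent.PLocal.ElemAbSup.card_sup_mul_card_inf (com c b)
        rw [dis b c (Ne.symm hcb), card_bot, mul_one] at h3
        have h4 : Nat.card ↥(A ⊓ centralizer (N c : Set G)) ≤
            Nat.card ↥(A ⊓ centralizer ((N b ⊔ N c : Subgroup G) : Set G)) := by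
          refine Subgroup.card_le_of_le (le_inf inf_le_left ?_)
          refine Subgroup.le_centralizer_iff.1 (sup_le ?_ ?_)
          · exact Subgroup.le_centralizer_iff.1 h1
          · exact Subgroup.le_centralizer_iff.1 inf_le_right
        have h5 : (N b ⊔ N c) ⊓ centralizer (A : Set G) ≤ l b ⊔ l c := by
          intro v hv
          obtain ⟨hv1, hv2⟩ := mem_inf.1 hv
          have hv3 : v ∈ ((N b ⊔ N c : Subgroup G) : Set G) := hv1
          rw [Cfsg.Agent.PLocal.ElemAbSup.coe_sup_of_le_centralizer (com c b)] at hv3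
          obtain ⟨x, hx, y, hy, rfl⟩ := Set.mem_mul.1 hv3
          have hkey : ∀ a ∈ A, a * x * a⁻¹ = x ∧ a * y * a⁻¹ = y := by
            intro a ha
            have hax : a * x * a⁻¹ ∈ N b := (mem_normalizer_iff.1 (nor b (hA.2.1 ha)) x).1 hx
            have hay : a * y * a⁻¹ ∈ N c := (mem_normalizer_iff.1 (nor c (hA.2.1 ha)) y).1 hy
            have e1 : (a * x * a⁻¹) * (a * y * a⁻¹) = x * y := by
              calc (a * x * a⁻¹) * (a * y * a⁻¹) = a * (x * y) * a⁻¹ := by group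
                _ = x * y * a * a⁻¹ := by rw [mem_centralizer_iff.1 hv2 a ha]
                _ = x * y := by group
            have e2 : x⁻¹ * (a * x * a⁻¹) = y * (a * y * a⁻¹)⁻¹ := by
              calc x⁻¹ * (a * x * a⁻¹) = x⁻¹ * ((a * x * a⁻¹) * (a * y * a⁻¹)) * (a * y * a⁻¹)⁻¹ := by group
                _ = x⁻¹ * (x * y) * (a * y * a⁻¹)⁻¹ := by rw [e1]
                _ = y * (a * y * a⁻¹)⁻¹ := by group
            have e3 : x⁻¹ * (a * x * a⁻¹) ∈ N b ⊓ N c := by
              refine mem_inf.2 ⟨mul_mem (inv_mem hx) hax, ?_⟩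
              rw [e2]
              exact mul_mem hy (inv_mem hay)
            rw [dis b c (Ne.symm hcb)] at e3
            have e4 := mem_bot.1 e3
            refine ⟨(inv_mul_eq_one.1 e4).symm, ?_⟩
            rw [e2] at e4
            exact (mul_inv_eq_one.1 e4).symm
          have hxl : x ∈ l b := by
            rw [← fix_eq hFb (lN b) (lne b)]
            refine mem_inf.2 ⟨hx, mem_centralizer_iff.2 fun a ha => ?_⟩
            calc a * x = a * x * a⁻¹ * a := by group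
              _ = x * a := by rw [(hkey a ha).1]
          have hyl : y ∈ l c := by
            rw [← fix_eq hFc (lN c) (lne c)]
            refine mem_inf.2 ⟨hy, mem_centralizer_iff.2 fun a ha => ?_⟩
            calc a * y = a * y * a⁻¹ * a := by group
              _ = y * a := by rw [(hkey a ha).2]
          exact mul_mem (mem_sup_left hxl) (mem_sup_right hyl)
        have h6 : Nat.card ↥((N b ⊔ N c) ⊓ centralizer (A : Set G)) ≤ Nat.card (l b) * Nat.card (l c) := by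
          refine (Subgroup.card_le_of_le h5).trans ?_
          have h7 : l c ≤ centralizer (l b : Set G) :=
            (lN c).trans ((com c b).trans (centralizer_le (lN b)))
          rw [← Cfsg.Agent.PLocal.ElemAbSup.card_sup_mul_card_inf h7]
          exact Nat.le_mul_of_pos_right _ Nat.card_pos
        -- `|l b| ≤ 1`
        have hpA : 0 < Nat.card ↥(A ⊓ centralizer (N c : Set G)) := Nat.card_pos
        have hpb : 0 < Nat.card (l b) := Nat.card_pos
        have hpc : 0 < Nat.card (l c) := Nat.card_pos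
        have h8 : (Nat.card (l b) * Nat.card (l b)) * (Nat.card (l c) * Nat.card (l c)) *
            Nat.card ↥(A ⊓ centralizer (N c : Set G)) ≤
            (Nat.card ↥(A ⊓ centralizer (N c : Set G)) * Nat.card (l c)) * (Nat.card (l b) * Nat.card (l c)) := by
          rw [← hFc.cardA, ← cardN b, ← cardN c, ← h3]
          exact (Nat.mul_le_mul_left _ h4).trans (h2.trans (Nat.mul_le_mul_left _ h6))
        have h9 : Nat.card (l b) * (Nat.card (l b) * (Nat.card (l c) * Nat.card (l c)) *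
            Nat.card ↥(A ⊓ centralizer (N c : Set G))) ≤
            1 * (Nat.card (l b) * (Nat.card (l c) * Nat.card (l c)) * Nat.card ↥(A ⊓ centralizer (N c : Set G))) := by
          refine le_trans (le_of_eq ?_) (h8.trans (le_of_eq ?_)) <;> ring
        have h10 : Nat.card (l b) ≤ 1 := Nat.le_of_mul_le_mul_right h9 (by positivity)
        exact lne b ((Subgroup.card_le_one_iff_eq_bot _).1 h10)
      · -- fewer blocks are moved
        have h1 : {d | ¬ A ⊓ centralizer (N c : Set G) ⊔ N c ≤ centralizer (N d : Set G)} ⊂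
            {d | ¬ A ≤ centralizer (N d : Set G)} := by
          refine ⟨fun d hd hAd => hd (sup_le (inf_le_left.trans hAd) (com c d)), fun hss => ?_⟩
          exact hss hc (sup_le inf_le_right (com c c))
        have h2 := Set.ncard_lt_ncard h1 (Set.toFinite _)
        exact Nat.le_of_lt_succ (h2.trans_le hn)
  obtain ⟨A, hA, hb⟩ := all b
  exact key _ A hA hb le_rfl

end pure

end Root

/-! ### the frame -/

section bls

variable {ι : Type v} {S V O : Subgroup G} {N l E : ι → Subgroup G}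

theorem Root.exists_cd (h : Bls S V N l E) (hS : IsPGroup 2 S) (b : ι) :
    ∃ (F : Type) (_ : Field F) (_ : Finite F) (_ : CharP F 2) (e : G → Fin 2 → F), Cd (TT S N) (N b) (l b) F e := by
  obtain ⟨F, i1, i2, i3, e, he⟩ := h.nat b
  have hn : TT S N ≤ normalizer (N b : Set G) := inf_le_right.trans (iInf_le _ b)
  exact ⟨F, i1, i2, i3, e, hS.to_le inf_le_left, hn, he.mul, he.inj, he.sur, he.line,
    fun s hs => he.semi s hs.1 (hn hs)⟩

theorem Root.dis (h : Bls S V N l E) (a b : ι) (hab : a ≠ b) : N a ⊓ N b = ⊥ := by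
  rw [eq_bot_iff, ← h.ind a]
  exact inf_le_inf_left _ (le_iSup (fun c : {c // c ≠ a} => N c) ⟨b, Ne.symm hab⟩)

theorem Root.com (h : Bls S V N l E) (a b : ι) : N a ≤ centralizer (N b : Set G) := by
  have hNV : ∀ c, N c ≤ V := fun c => h.sup ▸ le_iSup N c
  exact fun v hv => mem_centralizer_iff.2 fun w hw => h.com w (hNV b hw) v (hNV a hv)

/-- **`Rts` from `Bls`.** -/
theorem rts [Finite G] [Finite ι] (h : Bls S V N l E) (hS : IsPGroup 2 S) (hO : O ≤ TT S N) (NO : ∀ b, N b ≤ O)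
    (all : ∀ b, ∃ A ∈ AA O, ¬ A ≤ centralizer (N b : Set G))
    (I4 : zc (TT S N ⊓ centralizer ((⨆ b, l b : Subgroup G) : Set G)) ≤ ⨆ b, l b) : Rts (TT S N) O N l := by
  have hcd := Root.exists_cd h hS
  have hoff : ∀ b, ∀ A ≤ TT S N, IsElementaryAbelian 2 A →
      Nat.card (N b) * Nat.card ↥(A ⊓ centralizer (N b : Set G)) ≤
        Nat.card A * Nat.card ↥(N b ⊓ centralizer (A : Set G)) →
      A ≤ centralizer (N b : Set G) ∨ Full A (N b) (l b) := by
    intro b A hA hAe hle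
    obtain ⟨F, _, _, _, e, hc⟩ := hcd b
    exact hc.off hA hAe hle
  have hsq : ∀ b, ∀ v ∈ N b, v * v = 1 := by
    intro b v hv
    obtain ⟨F, _, _, _, e, hc⟩ := hcd b
    exact hc.sq hv
  have hlN : ∀ b, l b ≤ N b := by
    intro b
    obtain ⟨F, _, _, _, e, hc⟩ := hcd b
    exact hc.lN
  have hlne : ∀ b, l b ≠ ⊥ := by
    intro b
    obtain ⟨F, _, _, _, e, hc⟩ := hcd b
    exact hc.lne
  have hcardN : ∀ b, Nat.card (N b) = Nat.card (l b) * Nat.card (l b) := by
    intro b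
    obtain ⟨F, _, _, _, e, hc⟩ := hcd b
    exact hc.cardN
  have hTN : ∀ b, TT S N ≤ normalizer (N b : Set G) := fun b => inf_le_right.trans (iInf_le _ b)
  exact
    { two := hS.to_le inf_le_left
      OT := hO
      com := Root.com h
      sq := hsq
      NO := NO
      lN := hlN
      dis := Root.dis h
      TN := hTN
      Tl := fun b => by
        obtain ⟨F, _, _, _, e, hc⟩ := hcd b
        exact hc.Tl
      cardN := hcardN
      lne := hlne
      rt := fun b t ht hl => by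
        obtain ⟨F, _, _, _, e, hc⟩ := hcd b
        exact hc.rt ht hl
      rep := fun b A hA hF t ht hl => by
        obtain ⟨F, _, _, _, e, hc⟩ := hcd b
        exact hc.rep hA hF ht hl
      off := hoff
      pure := Root.exists_pure (Root.com h) hsq NO hlN (Root.dis h) hlne (fun b => hO.trans (hTN b)) hcardN
        (fun b A hA => hoff b A (hA.2.1.trans hO) hA.1
          (thom hA (Root.eab_of (Root.com h b b) (hsq b)) (NO b))) all
      I4 := I4 }

end bls

end Cfsg.Agent.Omega.NOThreeL.RWide.UniT
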