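import Cfsg.Agent.Mrg.Omega.NOThreeL.RWide.UniT.ParT
import Cfsg.Agent.Mrg.Omega.NOThreeL.RWide.UniT.ATwoB
import Cfsg.Agent.Mrg.Omega.NOThreeL.RWide.UniT.Root
import Cfsg.Agent.Mrg.Omega.NOThreeL.RWide.UniT.FrOf
import Cfsg.Agent.Mrg.Omega.NOThreeL.RWide.ParA.Glue
import Cfsg.Agent.Mrg.Omega.NOThreeL.RWide.UniT.FixBl
import Cfsg.Agent.Mrg.Omega.NOThreeL.RWide.ParT.EndA
import Cfsg.Agent.Mrg.Omega.NOThreeL.RWide.ParA.NBFacts
import Cfsg.Agent.Mrg.Omega.NOThreeL.RWide.ParT.Loc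

section


/-!
# `parT` (helper995 #27590): the plug

* `frT` : the frame `Fr` from `TFm` and `Rts`;
* **`parT_of'`** : `parT` from `Rts`, (A1), (A2).
-/

set_option autoImplicit false
set_option linter.unusedSectionVars false

namespace Cfsg.Agent.Omega.NOThreeL.RWide.UniT

open Subgroup Cfsg Cfsg.Agent.Omega.MinPar Cfsg.Agent.Omega.Frame
open Cfsg.Agent.ZN (zc o2 zl)
open Cfsg.Agent.ZN.ChoiceBase (cj AA)
open Cfsg.Agent.MinSimple.MinParabolic (IsMinPar)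
open Cfsg.Agent.Omega.EDel.ThmU (XF)
open Cfsg.Agent.Omega.NOThreeL.RWide.TAct (TT BB Tf OT)
open Cfsg.Agent.Omega.NOThreeL.RWide.ParQ (toTf)

universe u v

variable {G : Type u} [Group G] [Finite G] {ι : Type v} [Finite ι] [Nonempty ι] {S : Sylow 2 G} {V : Subgroup G}
  {N l E : ι → Subgroup G}

/-- **the frame** -/
theorem frT (hc : IsCharacteristicTwoType G) (h : TFm S V N l E) (three : ∀ i j : ι, ∃ k, k ≠ i ∧ k ≠ j)
    (r : Rts (TT (S : Subgroup G) N) (OT (TT (S : Subgroup G) N)) N l) (j : ι) (P : Subgroup G)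
    (hP : IsMinPar (TT (S : Subgroup G) N) P) (hPY : P ≤ YY (TAct.FF (S : Subgroup G) N l) j)
    (hmv : ¬ P ≤ centralizer (TAct.FF (S : Subgroup G) N l j : Set G)) :
    Fr (TT (S : Subgroup G) N) (OT (TT (S : Subgroup G) N)) P N l
      (fun c => XS (zc (TT (S : Subgroup G) N)) (XF (TAct.FF (S : Subgroup G) N l) j c)) j :=
  fr_of hc h.toBls (ParA.Glue.typ0 h three) r hP hPY hmv

/-- **`parT`** from `Rts`, (A1), (A2). -/
theorem parT_of' (hFF : FFThm.Stmt.{u}) (hc : IsCharacteristicTwoType G) (h : TFm S V N l E)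
    (three : ∀ i j : ι, ∃ k, k ≠ i ∧ k ≠ j)
    (ln : ∀ c ∈ centralizer (zc (S : Subgroup G) : Set G), ∀ b, ∃ b', cj c (l b) = l b')
    (r : Rts (TT (S : Subgroup G) N) (OT (TT (S : Subgroup G) N)) N l)
    (A1 : ∀ j P, IsMinPar (TT (S : Subgroup G) N) P → P ≤ YY (TAct.FF (S : Subgroup G) N l) j →
      ¬ P ≤ centralizer (TAct.FF (S : Subgroup G) N l j : Set G) → zl (TT (S : Subgroup G) N) P ≤ ⨆ b, l b →
      ∀ b, P ≤ normalizer (N b : Set G))
    (A2 : ∀ j P, Fr (TT (S : Subgroup G) N) (OT (TT (S : Subgroup G) N)) P N l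
        (fun c => XS (zc (TT (S : Subgroup G) N)) (XF (TAct.FF (S : Subgroup G) N l) j c)) j →
      P ≤ YY (TAct.FF (S : Subgroup G) N l) j → ¬ zl (TT (S : Subgroup G) N) P ≤ ⨆ b, l b →
      ∃ A ∈ AA (OT (TT (S : Subgroup G) N)), ¬ A ≤ o2 P) :
    ∀ j P, IsMinPar (TT (S : Subgroup G) N) P → P ≤ YY (TAct.FF (S : Subgroup G) N l) j →
      P ≤ centralizer (TAct.FF (S : Subgroup G) N l j : Set G) ∨ ∀ i, P ≤ normalizer (N i : Set G) :=
  parT_of h ln (frT hc h three r) (fun _ _ hfr hex => Act.active' hFF hfr hex) A1 A2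

/-- **`parT`** from `Rts` and the passive case. -/
theorem parT_of_passive (hFF : FFThm.Stmt.{u}) (hc : IsCharacteristicTwoType G) (h : TFm S V N l E)
    (three : ∀ i j : ι, ∃ k, k ≠ i ∧ k ≠ j)
    (ln : ∀ c ∈ centralizer (zc (S : Subgroup G) : Set G), ∀ b, ∃ b', cj c (l b) = l b')
    (r : Rts (TT (S : Subgroup G) N) (OT (TT (S : Subgroup G) N)) N l)
    (passive : ∀ j P, IsMinPar (TT (S : Subgroup G) N) P → P ≤ YY (TAct.FF (S : Subgroup G) N l) j →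
      ¬ P ≤ centralizer (TAct.FF (S : Subgroup G) N l j : Set G) →
      (∀ A ∈ AA (OT (TT (S : Subgroup G) N)), A ≤ o2 P) → ∀ b, P ≤ normalizer (N b : Set G)) :
    ∀ j P, IsMinPar (TT (S : Subgroup G) N) P → P ≤ YY (TAct.FF (S : Subgroup G) N l) j →
      P ≤ centralizer (TAct.FF (S : Subgroup G) N l j : Set G) ∨ ∀ i, P ≤ normalizer (N i : Set G) := by
  intro j P hP hPY
  by_cases hF : P ≤ centralizer (TAct.FF (S : Subgroup G) N l j : Set G)
  · exact Or.inl hF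
  refine Or.inr ?_
  by_cases hA : ∃ A ∈ AA (OT (TT (S : Subgroup G) N)), ¬ A ≤ o2 P
  · exact end_V h ln hPY (Act.active' hFF (frT hc h three r j P hP hPY hF) hA)
  · push Not at hA
    exact passive j P hP hPY hF hA

end Cfsg.Agent.Omega.NOThreeL.RWide.UniT

end

section


/-!
# [A1] of `parT` (helper971 #27366): `AA(O₂(C_G(Ω₁Z(S)))) ⊆ AA(O₂(C_G(Ω₁Z(T))))` and `Rts` over `TFm`

`C = C_G(Ω₁Z(S))`, `Z_J = ∏ l b`, `D = C_G(Z_J)`, `T = TT S N`, `OT T = O₂(C_G(Ω₁Z(T)))`.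

* `cent_lines` : `V ≤ O ≤ S`, `A ∈ AA(O)`: `A` normalises all blocks and centralises all lines;
* `V_le_DJ`, `low` : `V ≤ O₂(D) ≤ O₂(C)`; `V_le_OT`, `OT_le`;
* `le_DJ`, `le_DJT` : `AA(O₂(C))`, `AA(OT T)` lie in `O₂(D)`; `AA_sub` : `AA(O₂(C)) ⊆ AA(OT T)`;
* **`allT`** ; **`rtsT`** : `Rts (TT S N) (OT (TT S N)) N l`.
-/

set_option autoImplicit false
set_option linter.unusedSectionVars false

namespace Cfsg.Agent.Omega.NOThreeL.RWide.UniT

open Subgroup Cfsg Cfsg.Agent.Omega.MinPar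
open Cfsg.Agent.ZN (zc zl o2)
open Cfsg.Agent.ZN.ChoiceBase (cj AA cj_mono cj_inf cj_centralizer cj_eq_of_mem_normalizer mem_normalizer_iff_cj mem_zc)
open Cfsg.Agent.MinSimple.VModule (le_centralizer_zc le_normalizer_o2 o2_isPGroup le_o2 o2_le o2_le_of_sylow)
open Cfsg.Agent.Omega.KL.TwoS (Mx)
open Cfsg.Agent.Omega.NOThreeL.RWide.TAct (TT BB Tf OT)
open Cfsg.Agent.Omega.NOThreeL.RWide.ParQ (toTf)

universe u v

variable {G : Type u} [Group G] [Finite G]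

theorem AllT.o2_inf_le {C D : Subgroup G} (hDC : D ≤ C) : o2 C ⊓ D ≤ o2 D := by
  refine le_o2 inf_le_right ((o2_isPGroup _).to_le inf_le_left) fun d hd => ?_
  rw [mem_normalizer_iff_cj, cj_inf, cj_eq_of_mem_normalizer (le_normalizer_o2 _ (hDC hd)),
    cj_eq_of_mem_normalizer (Subgroup.le_normalizer hd)]

theorem AllT.mem_AA {O A : Subgroup G} (h : Mx O A) : A ∈ AA O := by
  refine ⟨⟨⟨⟨fun a b => ?_⟩⟩, h.sq⟩, h.le, fun B hB hBO => h.max B hBO hB.2⟩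
  exact Subtype.ext (mem_centralizer_iff.1 (h.comm b.2) a a.2)

variable {ι : Type v} [Finite ι] {S : Sylow 2 G} {V : Subgroup G} {N l E : ι → Subgroup G}

/-- **`A ∈ AA(O)`, `V ≤ O ≤ S`: `A` normalises all blocks and centralises all lines** -/
theorem cent_lines (h : TFm S V N l E) {O A : Subgroup G} (hOS : O ≤ (S : Subgroup G)) (hVO : V ≤ O) (hA : A ∈ AA O) :
    A ≤ TT (S : Subgroup G) N ∧ A ≤ centralizer ((⨆ b, l b : Subgroup G) : Set G) := by
  have hAS : A ≤ (S : Subgroup G) := hA.2.1.trans hOS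
  have hNV : ∀ b, N b ≤ V := fun b => h.sup ▸ le_iSup N b
  have hel : ∀ X : Subgroup G, X ≤ V → IsElementaryAbelian 2 X := fun X hX =>
    ⟨⟨⟨fun a b => Subtype.ext (h.com a (hX a.2) b (hX b.2))⟩⟩, fun a ha => h.sq a (hX ha)⟩
  have hth : ∀ X : Subgroup G, X ≤ V → Nat.card X * Nat.card ↥(A ⊓ centralizer (X : Set G)) ≤
      Nat.card A * Nat.card ↥(X ⊓ centralizer (A : Set G)) := fun X hX => thom hA (hel X hX) (hX.trans hVO)
  have abA : ∀ a ∈ A, ∀ b ∈ A, a * b = b * a := fun a ha b hb =>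
    congrArg Subtype.val (hA.1.1.is_comm.comm (⟨a, ha⟩ : A) (⟨b, hb⟩ : A))
  have hfix : ∀ b, A ≤ normalizer (N b : Set G) := by
    intro b
    obtain ⟨F, _, _, _, e, he⟩ := h.nat b
    refine FixBl.fix_of abA (fun i j v hv w hw => h.com v (hNV i hv) w (hNV j hw)) h.toBls.indep
      (fun a ha b => ?_) (fun X hX => hth X (h.sup ▸ hX)) ?_ ?_
    · obtain ⟨c, hc, -⟩ := h.perm a (hAS ha) b
      exact ⟨c, hc⟩
    · rw [ParA.NBFacts.cardN he, ParA.NBFacts.cardl he]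
      have h1 : 1 < Nat.card F := Finite.one_lt_card
      nlinarith
    · exact ParA.NBFacts.no he (inf_le_left.trans hAS) inf_le_right le_rfl
        (ParA.NBFacts.elemM_of (eab_mono hA.1 inf_le_left))
  have hAT : A ≤ TT (S : Subgroup G) N := le_inf hAS (le_iInf hfix)
  refine ⟨hAT, ?_⟩
  rw [Subgroup.le_centralizer_iff]
  refine iSup_le fun b => ?_
  rw [Subgroup.le_centralizer_iff]
  obtain ⟨F, _, _, _, e, he⟩ := h.nat b
  rcases ParA.NBFacts.off he hAS (hfix b) le_rfl hA.1 (hth _ (hNV b)) with h1 | h1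
  · exact h1.trans (centralizer_le (ParA.NBFacts.lN he))
  · exact h1.cent

variable [Nonempty ι]

/-- `V ≤ O₂(C_G(Ω₁Z(T)))` -/
theorem V_le_OT (hc : IsCharacteristicTwoType G) (h : TFm S V N l E) (three : ∀ i j : ι, ∃ k, k ≠ i ∧ k ≠ j) :
    V ≤ OT (TT (S : Subgroup G) N) := by
  rw [← h.sup]
  exact iSup_le fun b => ((toTf h).typ0 three h.EN h.EC h.irr h.ord).V_le_O hc b

theorem OT_le (h : TFm S V N l E) (three : ∀ i j : ι, ∃ k, k ≠ i ∧ k ≠ j) :
    OT (TT (S : Subgroup G) N) ≤ TT (S : Subgroup G) N :=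
  ((toTf h).typ0 three h.EN h.EC h.irr h.ord).o2_CZ_le (Classical.arbitrary ι)

/-- `D ≤ C_G(Ω₁Z(T))` -/
theorem DJ_le (h : TFm S V N l E) : centralizer ((⨆ b, l b : Subgroup G) : Set G) ≤
    centralizer (zc (TT (S : Subgroup G) N) : Set G) := centralizer_le (toTf h).zcT_le_R

/-- **`V ≤ O₂(C_G(Z_J))`** -/
theorem V_le_DJ (hc : IsCharacteristicTwoType G) (h : TFm S V N l E) (three : ∀ i j : ι, ∃ k, k ≠ i ∧ k ≠ j) :
    V ≤ o2 (centralizer ((⨆ b, l b : Subgroup G) : Set G)) :=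
  (le_inf (V_le_OT hc h three) ((toTf h).com.trans (centralizer_le (toTf h).RV))).trans
    (AllT.o2_inf_le (DJ_le h))

section ln

variable (ln : ∀ c ∈ centralizer (zc (S : Subgroup G) : Set G), ∀ b, ∃ b', cj c (l b) = l b')
include ln

/-- `O₂(D) ≤ O₂(C)` -/
theorem o2D_le_C (h : TFm S V N l E) : o2 (centralizer ((⨆ b, l b : Subgroup G) : Set G)) ≤
    o2 (centralizer (zc (S : Subgroup G) : Set G)) := o2_le_of (toTf h).DC (cz_of_ln ln)

/-- `O₂(D) ≤ OT T` -/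
theorem o2D_le_OT (h : TFm S V N l E) : o2 (centralizer ((⨆ b, l b : Subgroup G) : Set G)) ≤
    OT (TT (S : Subgroup G) N) :=
  o2_le_of (DJ_le h) ((centralizer_le (toTf h).Z_le_zcT).trans (cz_of_ln ln))

/-- **`V ≤ O₂(C)`** -/
theorem low (hc : IsCharacteristicTwoType G) (h : TFm S V N l E) (three : ∀ i j : ι, ∃ k, k ≠ i ∧ k ≠ j) :
    V ≤ o2 (centralizer (zc (S : Subgroup G) : Set G)) := (V_le_DJ hc h three).trans (o2D_le_C ln h)

/-- `A ∈ AA(O₂(C))` lies in `O₂(D)` -/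
theorem le_DJ (hc : IsCharacteristicTwoType G) (h : TFm S V N l E) (three : ∀ i j : ι, ∃ k, k ≠ i ∧ k ≠ j)
    {A : Subgroup G} (hA : A ∈ AA (o2 (centralizer (zc (S : Subgroup G) : Set G)))) :
    A ≤ o2 (centralizer ((⨆ b, l b : Subgroup G) : Set G)) := by
  have hSC : (S : Subgroup G) ≤ centralizer (zc (S : Subgroup G) : Set G) := le_centralizer_zc _
  have hOS : o2 (centralizer (zc (S : Subgroup G) : Set G)) ≤ (S : Subgroup G) :=
    o2_le_of_sylow S.isPGroup' (Cfsg.Agent.MinSimple.Basic.not_dvd_relIndex S hSC)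
  exact (le_inf hA.2.1 (cent_lines h hOS (low ln hc h three) hA).2).trans (AllT.o2_inf_le (toTf h).DC)

omit ln in
/-- `A ∈ AA(OT T)` lies in `O₂(D)` -/
theorem le_DJT (hc : IsCharacteristicTwoType G) (h : TFm S V N l E) (three : ∀ i j : ι, ∃ k, k ≠ i ∧ k ≠ j)
    {A : Subgroup G} (hA : A ∈ AA (OT (TT (S : Subgroup G) N))) :
    A ≤ o2 (centralizer ((⨆ b, l b : Subgroup G) : Set G)) :=
  (le_inf hA.2.1 (cent_lines h ((OT_le h three).trans inf_le_left) (V_le_OT hc h three) hA).2).trans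
    (AllT.o2_inf_le (DJ_le h))

/-- **`AA(O₂(C)) ⊆ AA(OT T)`** -/
theorem AA_sub (hc : IsCharacteristicTwoType G) (h : TFm S V N l E) (three : ∀ i j : ι, ∃ k, k ≠ i ∧ k ≠ j)
    {A : Subgroup G} (hA : A ∈ AA (o2 (centralizer (zc (S : Subgroup G) : Set G)))) :
    A ∈ AA (OT (TT (S : Subgroup G) N)) := by
  refine ⟨hA.1, (le_DJ ln hc h three hA).trans (o2D_le_OT ln h), fun B hB hBO => ?_⟩
  obtain ⟨A', hA'⟩ := Cfsg.Agent.ZN.ChoiceBase.AA_nonempty (OT (TT (S : Subgroup G) N))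
  exact (hA'.2.2 B hB hBO).trans (hA.2.2 A' hA'.1 ((le_DJT hc h three hA').trans (o2D_le_C ln h)))

/-- **[A1]** -/
theorem allT (hc : IsCharacteristicTwoType G) (h : TFm S V N l E) (three : ∀ i j : ι, ∃ k, k ≠ i ∧ k ≠ j)
    (all : ∀ b, ∃ A, Mx (o2 (centralizer (zc (S : Subgroup G) : Set G))) A ∧ ¬ A ≤ centralizer (N b : Set G)) (b : ι) :
    ∃ A ∈ AA (OT (TT (S : Subgroup G) N)), ¬ A ≤ centralizer (N b : Set G) := by
  obtain ⟨A, hA, hb⟩ := all b
  exact ⟨A, AA_sub ln hc h three (AllT.mem_AA hA), hb⟩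

/-- **`Rts` over `TFm`** -/
theorem rtsT (hc : IsCharacteristicTwoType G) (h : TFm S V N l E) (three : ∀ i j : ι, ∃ k, k ≠ i ∧ k ≠ j)
    (all : ∀ b, ∃ A, Mx (o2 (centralizer (zc (S : Subgroup G) : Set G))) A ∧ ¬ A ≤ centralizer (N b : Set G)) :
    Rts (TT (S : Subgroup G) N) (OT (TT (S : Subgroup G) N)) N l := by
  refine rts h.toBls S.isPGroup' (OT_le h three)
    (fun b => ((toTf h).typ0 three h.EN h.EC h.irr h.ord).V_le_O hc b) (allT ln hc h three all) ?_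
  refine le_trans (le_of_eq ?_) h.I4
  congr 1
  exact le_antisymm (le_inf (inf_le_left.trans inf_le_left) inf_le_right) (le_inf (toTf h).BT inf_le_right)

end ln

end Cfsg.Agent.Omega.NOThreeL.RWide.UniT

end
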